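import Groth.Agent.NormDef.Setup
import Groth.Agent.Conormal.BaseChange
import Groth.Agent.DCohLocus.FreeLocus
import Groth.Agent.W7Slope.Twist

/-!
The excess intersection formula for regular closed immersions, by deformation to the normal cone.
-/

set_option autoImplicit false
set_option linter.style.haveILetI false
set_option linter.unusedSectionVars false
set_option backward.isDefEq.respectTransparency false
set_option backward.isDefEq.respectTransparency.types false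
set_option maxHeartbeats 1600000

universe u

open CategoryTheory CategoryTheory.Limits AlgebraicGeometry LambdaRing
open Groth.Agent.SGA6Ext (cls pullK mulK kvbRing kvbLam kvbPos)
open Groth.Agent.K0ResLF (IsPush)
open KRR (projSpaceMap)

attribute [local instance] HasDerivedCategory.standard

noncomputable section

namespace Groth.Agent.NormDef

attribute [local instance] kvbRing kvbLam

theorem lamAltN_add {K : Type (u + 1)} [CommRing K] [LambdaOps K] {a b : K} {m n : ℕ}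
    (ha : ∀ i, m < i → LambdaOps.lam i a = 0) (hb : ∀ i, n < i → LambdaOps.lam i b = 0) :
    lamAltN (m + n) (a + b) = lamAltN m a * lamAltN n b := by
  let P : ℕ → K → Polynomial K := fun N c => ∑ i ∈ Finset.range (N + 1), Polynomial.monomial i (LambdaOps.lam i c)
  have hev : ∀ N c, (P N c).eval (-1) = lamAltN N c := fun N c => by
    rw [Polynomial.eval_finsetSum, lamAltN]
    exact Finset.sum_congr rfl fun i _ => by rw [Polynomial.eval_monomial, mul_comm]
  have hco : ∀ N c i, (P N c).coeff i = if i ≤ N then LambdaOps.lam i c else 0 := fun N c i => by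
    simp only [P, Polynomial.finsetSum_coeff, Polynomial.coeff_monomial, Finset.sum_ite_eq', Finset.mem_range,
      Nat.lt_succ_iff]
  have hser : ∀ N c, (∀ i, N < i → LambdaOps.lam i c = 0) →
      (P N c : PowerSeries K) = PowerSeries.mk fun i => LambdaOps.lam i c := fun N c h => by
    refine PowerSeries.ext fun i => ?_
    rw [Polynomial.coeff_coe, hco, PowerSeries.coeff_mk]
    split_ifs with hi
    · rfl
    · exact (h i (not_le.1 hi)).symm
  have hvan : ∀ i, m + n < i → LambdaOps.lam i (a + b) = 0 := fun i hi => by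
    rw [LambdaOps.lam_add]
    refine Finset.sum_eq_zero fun k hk => ?_
    rw [Finset.mem_range] at hk
    by_cases hkm : m < k
    · rw [ha k hkm, zero_mul]
    · rw [hb (i - k) (by omega), mul_zero]
  have h : P (m + n) (a + b) = P m a * P n b := by
    refine Polynomial.coe_inj.1 ?_
    rw [Polynomial.coe_mul, hser _ _ hvan, hser _ _ ha, hser _ _ hb]
    exact KSplit.lamSeries_add a b
  rw [← hev, ← hev, ← hev, h, Polynomial.eval_mul]

variable {X Y X₁ Y₁ : Scheme.{u}}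

theorem isFinLocFreeOfRank_tensor_inv {E L : X.Modules} {n : ℕ} (hE : FlatMod.IsFinLocFreeOfRank n E)
    (hL : PicF.IsInvertible L) : FlatMod.IsFinLocFreeOfRank n (CohB1.tensorMod E L) := by
  refine W7Strat.isFinLocFreeOfRank_of_frames fun x => ?_
  obtain ⟨U, k, e, hx, he⟩ := TMul.exists_isFrame (SGA6Ext.finLocFree_of_rank hE) x
  obtain rfl : k = n := (SGA6Ext.rk_of_frame he hx).symm.trans (SGA6Ext.rk_of_rank hE x)
  obtain ⟨O, g, hxO, hg⟩ := TMul.exists_isGen hL x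
  exact ⟨U ⊓ O, _, ⟨hx, hxO⟩, W7Slope.isFrame_tm (PBundle.isFrame_res he inf_le_left) (hg.res inf_le_right)⟩

theorem lam_cls_eq_zero [ConnectedSpace ↥X] {E : X.Modules} {n i : ℕ} (hE : FlatMod.IsFinLocFreeOfRank n E) (hi : n < i) :
    LambdaOps.lam i (cls E) = 0 :=
  SGA6Ext.lamK_eq_zero hE hi

/-- The excess class is the class of a bundle. -/
theorem exists_excess [ConnectedSpace ↥X₁] {f : X ⟶ Y} (hf : Mor2.IsRegularClosedImmersion f) {d : ℕ}
    (hC : FlatMod.IsFinLocFreeOfRank d (Omega.conormal f)) {φ : Y₁ ⟶ Y} {f₁ : X₁ ⟶ Y₁} {ψ : X₁ ⟶ X}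
    (hsq : IsPullback f₁ ψ φ f) (hf₁ : Mor2.IsRegularClosedImmersion f₁) {d₁ : ℕ}
    (hC₁ : FlatMod.IsFinLocFreeOfRank d₁ (Omega.conormal f₁)) :
    ∃ (m : ℕ) (K : X₁.Modules), d = d₁ + m ∧ FlatMod.IsFinLocFreeOfRank m K ∧
      cls K = pullK ψ (cls (Omega.conormal f)) - cls (Omega.conormal f₁) := by
  haveI := hf.1
  haveI := hf₁.1
  obtain ⟨χ, hχ, -⟩ := Conormal.existsUnique_conormalMap (i := f₁) (i' := f) (g := φ) (gZ := ψ) hsq.w.symm
  haveI : Epi χ := (Conormal.epi_isIso_of_isPullback hsq hχ).1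
  have hA : FlatMod.IsFinLocFreeOfRank d ((Scheme.Modules.pullback ψ).obj (Omega.conormal f)) :=
    Nagata.isFinLocFreeOfRank_pullback ψ hC
  have hAl := SGA6Ext.finLocFree_of_rank hA
  have hBl := SGA6Ext.finLocFree_of_rank hC₁
  have hKl := DCohLocus.isFinLocFree_kernel χ hAl hBl
  let S := ShortComplex.mk (kernel.ι χ) χ (kernel.condition χ)
  have hS : S.ShortExact :=
    { exact := ShortComplex.exact_of_f_is_kernel _ (kernelIsKernel χ) }
  refine ⟨SGA6Ext.rank (kernel χ), kernel χ, ?_, SGA6Ext.isRank hKl, ?_⟩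
  · have h := SGA6Ext.rank_middle hS hKl hBl
    rw [show SGA6Ext.rank S.X₂ = d from SGA6Ext.rank_of hA, show SGA6Ext.rank S.X₃ = d₁ from SGA6Ext.rank_of hC₁] at h
    exact h.trans (Nat.add_comm _ _)
  · rw [SGA6Ext.pullK_cls ψ (SGA6Ext.finLocFree_of_rank hC)]
    exact eq_sub_of_add_eq (K0Res.clSub_add (fun M : X₁.Modules => FlatMod.IsFinLocFree M) hS hKl hAl hBl).symm

theorem isPullback_sect_comap_all (φ : Y₁ ⟶ Y) (k : Fin (1 + 1)) [IsClosedImmersion (P1.sect Y k)] :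
    (P1.sect Y k).ker.comap (projSpaceMap 1 φ) = (P1.sect Y₁ k).ker :=
  (ThickSys.ker_of_isPullback (isPullback_sect φ k)).symm

theorem sect_map (k : Fin (1 + 1)) (φ : Y₁ ⟶ Y) :
    P1.sect Y₁ k ≫ projSpaceMap 1 φ = φ ≫ P1.sect Y k :=
  (isPullback_sect φ k).w

theorem projSpaceMap_comm {f : X ⟶ Y} {φ : Y₁ ⟶ Y} {f₁ : X₁ ⟶ Y₁} {ψ : X₁ ⟶ X} (hsq : IsPullback f₁ ψ φ f) :
    IsPullback (projSpaceMap 1 f₁) (projSpaceMap 1 ψ) (projSpaceMap 1 φ) (projSpaceMap 1 f) := by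
  have e1 := (PnReg.isPullback_map (n := 1) f₁).w
  have e2 := (PnReg.isPullback_map (n := 1) f).flip
  have w : projSpaceMap 1 f₁ ≫ projSpaceMap 1 φ = projSpaceMap 1 ψ ≫ projSpaceMap 1 f := by
    refine pullback.hom_ext ?_ ?_
    · rw [Category.assoc, Category.assoc, PnReg.map_fst, PnReg.map_fst, PnReg.map_fst, PnReg.map_fst]
    · show (projSpaceMap 1 f₁ ≫ projSpaceMap 1 φ) ≫ KRR.pr 1 Y = (projSpaceMap 1 ψ ≫ projSpaceMap 1 f) ≫ KRR.pr 1 Y
      rw [Category.assoc, Category.assoc, (PnReg.isPullback_map φ).w, (PnReg.isPullback_map f).w,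
        ← Category.assoc, e1, ← Category.assoc (projSpaceMap 1 ψ), (PnReg.isPullback_map ψ).w, Category.assoc,
        hsq.w, Category.assoc]
  have hbig : IsPullback (projSpaceMap 1 f₁ ≫ KRR.pr 1 Y₁) (projSpaceMap 1 ψ) φ (KRR.pr 1 X ≫ f) := by
    rw [e1]
    exact (PnReg.isPullback_map (n := 1) ψ).flip.paste_horiz hsq
  refine IsPullback.of_right ?_ w (PnReg.isPullback_map (n := 1) φ).flip
  rw [(PnReg.isPullback_map (n := 1) f).w]
  exact hbig

/-- The excess intersection formula. -/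
theorem excess [IsNoetherian Y] [ConnectedSpace ↥Y] (hY : KRR.HasEnoughLocFree Y) [IsNoetherian Y₁]
    [ConnectedSpace ↥Y₁] (hY₁ : KRR.HasEnoughLocFree Y₁) {f : X ⟶ Y} (hf : Mor2.IsRegularClosedImmersion f)
    [ConnectedSpace ↥X] {d : ℕ} (hC : FlatMod.IsFinLocFreeOfRank d (Omega.conormal f))
    {φ : Y₁ ⟶ Y} {f₁ : X₁ ⟶ Y₁} {ψ : X₁ ⟶ X} (hsq : IsPullback f₁ ψ φ f) (hf₁ : Mor2.IsRegularClosedImmersion f₁)
    [ConnectedSpace ↥X₁] {d₁ : ℕ} (hC₁ : FlatMod.IsFinLocFreeOfRank d₁ (Omega.conormal f₁))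
    {af : SGA6.Kvb X →+ SGA6.Kvb Y} (haf : IsPush f af) {af₁ : SGA6.Kvb X₁ →+ SGA6.Kvb Y₁} (haf₁ : IsPush f₁ af₁)
    (x : SGA6.Kvb X) :
    d₁ ≤ d ∧ pullK φ (af x) =
      af₁ (lamAltN (d - d₁) (pullK ψ (cls (Omega.conormal f)) - cls (Omega.conormal f₁)) * pullK ψ x) := by
  obtain ⟨m, K, rfl, hK, hKe⟩ := exists_excess hf hC hsq hf₁ hC₁
  refine ⟨Nat.le_add_right _ _, ?_⟩
  rw [Nat.add_sub_cancel_left, ← hKe]
  haveI := hf.1
  haveI := hf₁.1
  haveI : IsLocallyNoetherian X := LocallyOfFiniteType.isLocallyNoetherian f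
  haveI : CompactSpace ↥X := QuasiCompact.compactSpace_of_compactSpace f
  haveI : IsNoetherian X := {}
  haveI : IsLocallyNoetherian X₁ := LocallyOfFiniteType.isLocallyNoetherian f₁
  haveI : CompactSpace ↥X₁ := QuasiCompact.compactSpace_of_compactSpace f₁
  haveI : IsNoetherian X₁ := {}
  obtain ⟨S⟩ := exists_setup hY f hf hC
  obtain ⟨S₁⟩ := exists_setup hY₁ f₁ hf₁ hC₁
  haveI := S.noeth
  haveI := S₁.noeth
  haveI := S.regF.1
  haveI := S₁.regF.1
  haveI := S.proper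
  haveI := P1Div.isClosedImmersion_sect Y 1
  haveI := P1Div.isClosedImmersion_sect Y₁ 1
  let q := KRR.pr 1 X
  let q₁ := KRR.pr 1 X₁
  let φP := projSpaceMap 1 φ
  have hq : ∀ k, P1.sect X k ≫ q = 𝟙 X := fun k => pullback.lift_snd _ _ _
  have hq₁ : ∀ k, P1.sect X₁ k ≫ q₁ = 𝟙 X₁ := fun k => pullback.lift_snd _ _ _
  -- the map of deformations
  have hcI : ((projSpaceMap 1 f).ker ⊔ (P1.sect Y 1).ker).comap φP =
      (projSpaceMap 1 f₁).ker ⊔ (P1.sect Y₁ 1).ker := by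
    rw [Scheme.IdealSheafData.comap_sup, isPullback_sect_comap_all φ 1,
      ← ThickSys.ker_of_isPullback (projSpaceMap_comm hsq)]
  have hcE : ((projSpaceMap 1 f).ker ⊔ (P1.sect Y 1).ker).comap (S₁.b ≫ φP) = S₁.D.E := by
    rw [Scheme.IdealSheafData.comap_comp, hcI]
  obtain ⟨Φ, hΦ, -⟩ := S.D.blowUp.2 S₁.M (S₁.b ≫ φP) (hcE ▸ S₁.D.cart_E)
  have hΦE : S.D.E.comap Φ = S₁.D.E := by rw [← Scheme.IdealSheafData.comap_comp, hΦ, hcE]
  have hΦA : S.D.A.comap Φ = S₁.D.A := by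
    refine ModPairProd.mul_cancel S₁.D.cart_E ?_
    rw [← S₁.D.hA, ← hΦE, ← BlowUpLib.comap_mul, ← S.D.hA, ← Scheme.IdealSheafData.comap_comp, hΦ,
      Scheme.IdealSheafData.comap_comp, isPullback_sect_comap_all φ 1]
  obtain ⟨π, s, L, E', hcon, hπ, hs, hL, hsL, hLN, hE', hE'c, hE⟩ := S.exists_excData hY hf hC
  obtain ⟨π₁, s₁, L₁, E₁', hcon₁, hπ₁, hs₁, hL₁, hsL₁, hLN₁, hE₁', hE₁'c, hE₁⟩ := S₁.exists_excData hY₁ hf₁ hC₁
  obtain ⟨j0, hj0, hsq0, huniq⟩ := S.exists_zeroFibre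
  obtain ⟨k0, hk0, hsk0, hkuniq⟩ := S₁.exists_zeroFibre
  obtain ⟨aF, haF⟩ := push_exists S.enough S.regF
  obtain ⟨aF₁, haF₁⟩ := push_exists S₁.enough S₁.regF
  let z := lamAltN m (cls K) * pullK ψ x
  let Dt := pullK Φ (aF (pullK q x)) - aF₁ (pullK q₁ z)
  have hzero : pullK k0 Dt = 0 := by
    refine S₁.eq_zero hY₁ hf₁ hk0 hkuniq Dt ?_ ?_
    · rw [map_sub, pull_push_disjoint S₁.enough S₁.regF haF₁ _ S₁.disjoint, sub_zero, ← KSplit.pullK_comp]
      refine pull_push_disjoint S.enough S.regF haF _ (Set.disjoint_of_subset_left ?_ S.disjoint) _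
      let g : S₁.D.A.subscheme ⟶ S.D.A.subscheme := IsClosedImmersion.lift S.D.A.subschemeι (S₁.D.A.subschemeι ≫ Φ)
        (by rw [Scheme.IdealSheafData.ker_subschemeι, ← Scheme.IdealSheafData.map_ker,
          Scheme.IdealSheafData.ker_subschemeι, Scheme.IdealSheafData.le_map_iff_comap_le, hΦA])
      have hg : g ≫ S.D.A.subschemeι = S₁.D.A.subschemeι ≫ Φ := IsClosedImmersion.lift_fac _ _ _
      rintro _ ⟨w, rfl⟩
      exact ⟨g w, by rw [← Scheme.Hom.comp_apply, hg]⟩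
    · let g : S₁.D.E.subscheme ⟶ S.D.E.subscheme := IsClosedImmersion.lift S.D.E.subschemeι (S₁.D.E.subschemeι ≫ Φ)
        (by rw [Scheme.IdealSheafData.ker_subschemeι, ← Scheme.IdealSheafData.map_ker,
          Scheme.IdealSheafData.ker_subschemeι, Scheme.IdealSheafData.le_map_iff_comap_le, hΦE])
      have hg : g ≫ S.D.E.subschemeι = S₁.D.E.subschemeι ≫ Φ := IsClosedImmersion.lift_fac _ _ _
      have hgπ : g ≫ π = π₁ ≫ ψ := by
        rw [← cancel_mono (centre f), Category.assoc, hπ, reassoc_of% hg, hΦ, ← reassoc_of% hπ₁, Category.assoc]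
        show π₁ ≫ (f₁ ≫ P1.sect Y₁ 1) ≫ φP = π₁ ≫ ψ ≫ f ≫ P1.sect Y 1
        rw [Category.assoc, sect_map, ← Category.assoc f₁, hsq.w, Category.assoc]
      have hgL : pullK g (cls L) = cls L₁ := by
        refine left_inv_eq_right_inv (a := pullK S₁.D.E.subschemeι (cls (ClSub.idealMod S₁.D.E))) ?_
          ((mul_comm _ _).trans hLN₁)
        have h1 := congrArg (pullK g) hLN
        rwa [pullK_mul, pullK_one, ← KSplit.pullK_comp g, hg, KSplit.pullK_comp, pullK_cls_idealMod Φ S.D.cart_E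
          (hΦE.symm ▸ S₁.D.cart_E), hΦE] at h1
      have hKl := SGA6Ext.finLocFree_of_rank hK
      have hK' := isFinLocFreeOfRank_tensor_inv (Nagata.isFinLocFreeOfRank_pullback π₁ hK) hL₁
      let ε := pullK π₁ (cls K) * cls L₁
      have hεc : ε = cls (CohB1.tensorMod ((Scheme.Modules.pullback π₁).obj K) L₁) := by
        show pullK π₁ (cls K) * cls L₁ = _
        rw [SGA6Ext.pullK_cls π₁ hKl, mul_eq, SGA6Ext.mulK_cls (DerPerf.isFinLocFree_pullback π₁ hKl)
          (ResDesc.isFinLocFree_of_isInvertible hL₁)]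
      have hgE : pullK g (cls E') = cls E₁' + ε := by
        show _ = cls E₁' + pullK π₁ (cls K) * cls L₁
        rw [hE'c, pullK_mul, hgL, ← KSplit.pullK_comp, hgπ, KSplit.pullK_comp, hE₁'c, ← add_mul, ← map_add,
          hKe, add_sub_cancel]
      have hy : pullK s₁ (lamAltN m ε * pullK π₁ (pullK ψ x)) = z := by
        rw [pullK_mul, pullK_lamAltN, pullK_mul, hsL₁, mul_one, ← KSplit.pullK_comp s₁ π₁, hs₁, KSplit.pullK_id,
          ← KSplit.pullK_comp s₁ π₁, hs₁, KSplit.pullK_id]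
      rw [map_sub, ← hy, hE₁ aF₁ haF₁, ← KSplit.pullK_comp, ← hg, KSplit.pullK_comp,
        show x = pullK s (pullK π x) by rw [← KSplit.pullK_comp, hs, KSplit.pullK_id], hE aF haF,
        ← KSplit.pullK_comp s π, hs, KSplit.pullK_id, pullK_mul, pullK_lamAltN, hgE,
        ← KSplit.pullK_comp g π, hgπ, KSplit.pullK_comp,
        lamAltN_add (fun i hi => lam_cls_eq_zero hE₁' hi) (fun i hi => hεc ▸ lam_cls_eq_zero hK' hi), mul_assoc,
        sub_self]
  have hkΦ : k0 ≫ Φ = φ ≫ j0 := huniq _ φ _ (by rw [Category.assoc, hΦ, reassoc_of% hk0, sect_map])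
  rw [map_sub, ← KSplit.pullK_comp, hkΦ, KSplit.pullK_comp, sub_eq_zero,
    push_bc hsq0 S.regF hf S.rankF hC S.enough haF haf, push_bc hsk0 S₁.regF hf₁ S₁.rankF hC₁ S₁.enough haF₁ haf₁,
    ← KSplit.pullK_comp _ q, hq, KSplit.pullK_id, ← KSplit.pullK_comp _ q₁, hq₁, KSplit.pullK_id] at hzero
  exact hzero

end Groth.Agent.NormDef
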