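import Groth.Agent.NormDef.KTools
import Groth.Agent.S3803
import Groth.Agent.S3792
import Groth.Agent.KSplit.Gamma
import Groth.Agent.KSplit.Model
import Groth.Agent.K0ResLF.RRPn

/-!
Adams operations on the direct image along the zero scheme of a cosection.
-/

set_option autoImplicit false
set_option linter.style.haveILetI false
set_option linter.unusedSectionVars false
set_option backward.isDefEq.respectTransparency false
set_option backward.isDefEq.respectTransparency.types false
set_option maxHeartbeats 1000000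

universe v u

open CategoryTheory CategoryTheory.Limits AlgebraicGeometry LambdaRing
open Groth.Agent.SGA6Ext (cls pullK mulK kvbRing kvbLam kvbPos)
open Groth.Agent.K0ResLF (IsPush)

attribute [local instance] HasDerivedCategory.standard

noncomputable section

namespace Groth.Agent.NormDef

attribute [local instance] kvbRing kvbLam

/-- Bott's class with prescribed rank. -/
def bottN {K : Type v} [CommRing K] [LambdaOps K] (d j : ℕ) (c : K) : K :=
  MvPolynomial.aeval (fun i : Fin d => LambdaOps.lam (i.1 + 1) c) (KRR.bottPoly j d)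

theorem bott_eq_bottN {K : Type v} [CommRing K] [LambdaOps K] (P : PosStructure K) {d : ℕ} (j : ℕ) {c : K}
    (hc : P.aug c = (d : ℤ)) : KRR.bott P j c = bottN d j c := by
  have h : (P.aug c).toNat = d := by rw [hc, Int.toNat_natCast]
  rw [KRR.bott]
  subst h
  rfl

theorem bottN_zero {K : Type v} [CommRing K] [LambdaOps K] (j : ℕ) (c : K) : bottN 0 j c = 1 := by
  have key : MvPolynomial.aeval (fun i : Fin 0 => MvPolynomial.esymm (Fin 0) ℤ (i.1 + 1)) (KRR.bottPoly j 0) =
      KRR.bottSym j 0 := by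
    rw [KRR.bottPoly, ← MvPolynomial.esymmAlgHom_apply]
    exact congrArg Subtype.val (AlgEquiv.apply_symm_apply
      (MvPolynomial.esymmAlgEquiv (Fin 0) ℤ (Fintype.card_fin _)) _)
  obtain ⟨r, hr⟩ := MvPolynomial.C_surjective (R := ℤ) (Fin 0) (KRR.bottPoly j 0)
  rw [← hr, MvPolynomial.aeval_C, KRR.bottSym, Fin.prod_univ_zero] at key
  have hr1 : r = 1 := by
    have := congrArg MvPolynomial.constantCoeff key
    simpa using this
  rw [bottN, ← hr, MvPolynomial.aeval_C, hr1]
  exact map_one _

theorem adamsOp_zero {K : Type u} [CommRing K] [LambdaOps K] {j : ℕ} (hj : 1 ≤ j) : adamsOp j (0 : K) = 0 := by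
  have h := Lambda.adamsOp_add hj (0 : K) 0
  rw [add_zero] at h
  exact left_eq_add.1 h

variable {X Y : Scheme.{u}}

theorem pullK_bottN (f : X ⟶ Y) (d j : ℕ) (c : SGA6.Kvb Y) : pullK f (bottN d j c) = bottN d j (pullK f c) := by
  show KSplit.pullRing f (bottN d j c) = _
  rw [bottN, Lambda.map_aeval_int]
  exact congrArg (fun v => MvPolynomial.aeval v (KRR.bottPoly j d)) (funext fun i => KSplit.pullK_lamK f (i.1 + 1) c)

theorem pullK_sub (f : X ⟶ Y) (x y : SGA6.Kvb Y) : pullK f (x - y) = pullK f x - pullK f y := map_sub _ _ _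

/-- Adams operations on the push-forward along a section cut out by a cosection. -/
theorem adams_push_zeroScheme [IsNoetherian X] [ConnectedSpace ↥X] {E : Scheme.{u}} [IsNoetherian E]
    [ConnectedSpace ↥E] (hE : KRR.HasEnoughLocFree E) {π : E ⟶ X} {s : X ⟶ E} (hs : s ≫ π = 𝟙 X)
    (hsr : Mor2.IsRegularClosedImmersion s) {d : ℕ} (hcs : FlatMod.IsFinLocFreeOfRank d (Omega.conormal s))
    {E' : E.Modules} (hE' : FlatMod.IsFinLocFreeOfRank d E') (t : E' ⟶ Coh.structureModule E)
    (ht : ∀ U : E.affineOpens, s.ker.ideal U = Ideal.span {a : Γ(E, U.1) | ∃ σ : Γ(E', U.1), (t.app U.1) σ = a})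
    {a : SGA6.Kvb X →+ SGA6.Kvb E} (ha : IsPush s a) {j : ℕ} (hj : 1 ≤ j) (x : SGA6.Kvb X) :
    adamsOp j (a x) = a (bottN d j (pullK s (cls E')) * adamsOp j x) := by
  haveI := hsr.1
  have hX := KSplit.isModel_kvb X
  have hM := KSplit.isModel_kvb E
  have hsp := KSplit.hasSplitting (SGA6.Kvb E) (kvbPos E) (AddMonoidHom.id _) hM
  have h1 : a 1 = KRR.lamAlt (kvbPos E) (cls E') :=
    S3803.result hE d E' hE' t s ht hsr hcs _ _ _ hX _ _ _ hM a ha
  have haug : (kvbPos E).aug (cls E') = (d : ℤ) := hM.aug_cl d E' hE'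
  have hψ1 : adamsOp j (a 1) = a 1 * bottN d j (cls E') := by
    rcases Nat.eq_zero_or_pos d with hd | hd
    · subst hd
      have h0 : a 1 = 1 := by
        rw [h1, KRR.lamAlt, haug]
        simp [LambdaOps.lam_zero]
      rw [h0, bottN_zero, mul_one, Lambda.adamsOp_one_pos (kvbPos E) hj]
    · rw [h1, ← Lambda.adams_eq (kvbPos E) hj,
        S3792.result (SGA6.Kvb E) (kvbPos E) hsp (cls E') ((hM.mem_pos_iff _).2 ⟨d, E', hd, hE', rfl⟩) j hj,
        bott_eq_bottN (kvbPos E) j haug]
  have hπ : ∀ y : SGA6.Kvb X, pullK s (pullK π y) = y := fun y => by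
    rw [← KSplit.pullK_comp, hs, KSplit.pullK_id]
  calc adamsOp j (a x) = adamsOp j (a 1 * pullK π x) := by rw [← push_pull hE hsr ha, hπ]
    _ = a 1 * (bottN d j (cls E') * pullK π (adamsOp j x)) := by
      rw [Lambda.adamsOp_mul_pos hsp hj, hψ1, pullK_adamsOp, mul_assoc]
    _ = a (pullK s (bottN d j (cls E') * pullK π (adamsOp j x))) := (push_pull hE hsr ha _).symm
    _ = _ := by rw [pullK_mul, pullK_bottN, hπ]

end Groth.Agent.NormDef
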