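import Groth.Agent.NormDef.Core
import Groth.Agent.KRRLam.Basic
import Groth.Agent.Lambda.Split
import Groth.Agent.S3795

/-!
A group homomorphism satisfying Riemann-Roch shifts the rational γ-filtration.
-/

set_option autoImplicit false
set_option linter.style.haveILetI false
set_option linter.unusedSectionVars false
set_option backward.isDefEq.respectTransparency false
set_option maxHeartbeats 800000

universe u

open LambdaRing Groth.Agent.Lambda
open scoped Polynomial

noncomputable section

namespace Groth.Agent.NormDef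

variable {K : Type u} [CommRing K] [LambdaOps K] {P : PosStructure K}

/-- With an ample element, the classes of augmentation zero are nilpotent. -/
theorem isNilpotent_of_aug {u : K} (hu : KRR.IsAmpleElt P u) {x : K} (hx : P.aug x = 0) : IsNilpotent x := by
  obtain ⟨hul, hex⟩ := hu
  obtain ⟨n₁, h1⟩ := hex x
  obtain ⟨n₂, h2⟩ := hex (-x)
  set n := max n₁ n₂
  obtain ⟨e, m, he, hem⟩ := h1 n (le_max_left _ _)
  obtain ⟨e', m', he', hem'⟩ := h2 n (le_max_right _ _)
  set y := u ^ n * x with hy
  replace hem' : -y = e' - m' := by rw [← hem', hy]; ring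
  have hay : P.aug y = 0 := by rw [hy, map_mul, hx, mul_zero]
  have hm : P.aug e = (m : ℤ) := by
    have h := congrArg P.aug hem
    rw [hay, map_sub, map_natCast] at h
    linarith
  have hm' : P.aug e' = (m' : ℤ) := by
    have h := congrArg P.aug hem'
    rw [map_neg, hay, map_sub, map_natCast] at h
    linarith
  have key : ∀ (z e : K) (m : ℕ), e ∈ P.pos → P.aug e = (m : ℤ) → z = e - m →
      ((PowerSeries.trunc (m + 1) (gammaSeries z) : K[X]) : PowerSeries K) = gammaSeries z := by
    intro z e m he hm hz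
    ext k
    rw [Polynomial.coeff_coe, PowerSeries.coeff_trunc]
    split_ifs with hk
    · rfl
    · rw [gammaSeries, PowerSeries.coeff_mk, hz, KRRLam.gamma_sub_aug_eq_zero P he hm (by omega)]
  have hA := key y e m he hm hem
  have hB := key (-y) e' m' he' hm' hem'
  have hAB : PowerSeries.trunc (m' + 1) (gammaSeries (-y)) * PowerSeries.trunc (m + 1) (gammaSeries y) = 1 := by
    refine Polynomial.coe_injective K ?_
    rw [Polynomial.coe_mul, Polynomial.coe_one, hA, hB]
    exact gammaSeries_neg_mul y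
  have hnil := ((Polynomial.isUnit_iff_coeff_isUnit_isNilpotent).1 (IsUnit.of_mul_eq_one_right _ hAB)).2 1 one_ne_zero
  have hc : (PowerSeries.trunc (m + 1) (gammaSeries y)).coeff 1 = y := by
    have h := congrArg (PowerSeries.coeff 1) hA
    rw [Polynomial.coeff_coe] at h
    rw [h, gammaSeries, PowerSeries.coeff_mk, gamma_one]
  rw [hc] at hnil
  have hun : IsUnit u := by
    have := P.isUnit_lam u hul.1
    rwa [hul.2, Int.toNat_one, LambdaOps.lam_one] at this
  obtain ⟨k, hk⟩ := hnil
  refine ⟨k, ((hun.pow n).pow k).mul_right_eq_zero.1 ?_⟩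
  rwa [← mul_pow]

variable {L : Type u} [CommRing L] [LambdaOps L] {Q : PosStructure L} {g : K →+* L}

theorem isNilpotent_line_sub_one_of_split (hnil : ∀ x, P.aug x = 0 → IsNilpotent x) (hg : IsExtension P Q g)
    {e : K} {s : Multiset L} (hs : ∀ u ∈ s, Q.IsLine u) (hsum : s.sum = g e) {u : L} (hu : u ∈ s) :
    IsNilpotent (u - 1) := by
  set a := u - 1
  set w := s.map (· - 1)
  have ha : a ∈ w := Multiset.mem_map.2 ⟨u, hu, rfl⟩
  have hcard : w.card = s.card := Multiset.card_map _ _
  have hes : ∀ k, g (gamma k (e - (s.card : K))) = w.esymm k := fun k => by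
    rw [map_gamma hg.isLambdaHom, map_sub, map_natCast, ← hsum, gamma_sum_lines hs]
  have hnil' : ∀ k, 1 ≤ k → IsNilpotent (w.esymm k) := fun k hk => by
    rw [← hes]
    refine (hnil _ ?_).map g
    rw [← hg.aug_comp, hes, Multiset.esymm, map_multiset_sum, Multiset.map_map]
    refine Multiset.sum_eq_zero fun z hz => ?_
    obtain ⟨t, ht, rfl⟩ := Multiset.mem_map.1 hz
    obtain ⟨hle, hcardt⟩ := Multiset.mem_powersetCard.1 ht
    obtain ⟨c, hc⟩ := Multiset.card_pos_iff_exists_mem.1 (show 0 < t.card by omega)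
    show Q.aug t.prod = 0
    rw [map_multiset_prod]
    refine Multiset.prod_eq_zero (Multiset.mem_map.2 ⟨c, hc, ?_⟩)
    obtain ⟨v, hv, rfl⟩ := Multiset.mem_map.1 (Multiset.mem_of_le hle hc)
    rw [map_sub, map_one, (hs v hv).2, sub_self]
  have h := congrArg (Polynomial.eval (-a)) (Multiset.prod_X_add_C_eq_sum_esymm w)
  rw [Polynomial.eval_multiset_prod, Multiset.map_map, Multiset.prod_eq_zero (Multiset.mem_map.2 ⟨a, ha, by simp⟩),
    Polynomial.eval_finsetSum, Finset.sum_range_succ'] at h
  simp only [Polynomial.eval_mul, Polynomial.eval_C, Polynomial.eval_pow, Polynomial.eval_X, Nat.sub_zero] at h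
  rw [Multiset.esymm, Multiset.powersetCard_zero_left] at h
  simp only [Multiset.map_singleton, Multiset.prod_zero, Multiset.sum_singleton, one_mul] at h
  have h2 : IsNilpotent (∑ k ∈ Finset.range w.card, w.esymm (k + 1) * (-a) ^ (w.card - (k + 1))) :=
    isNilpotent_sum fun k _ => (Commute.all _ _).isNilpotent_mul_right (hnil' (k + 1) k.succ_pos)
  have h3 : IsNilpotent ((-a) ^ w.card) := by
    rw [show (-a) ^ w.card = -(∑ k ∈ Finset.range w.card, w.esymm (k + 1) * (-a) ^ (w.card - (k + 1))) by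
      linear_combination -h]
    exact h2.neg
  obtain ⟨k, hk⟩ := h3
  exact isNilpotent_neg_iff.1 ⟨w.card * k, by rw [pow_mul, hk]⟩

section Deg

variable {ι : Type} (v : ι → L)

/-- Values of polynomials without terms of degree less than `m`. -/
def degGE (m : ℕ) : AddSubgroup L :=
  ((Ideal.span (Set.range (MvPolynomial.X : ι → MvPolynomial ι ℤ)) ^ m).toAddSubgroup).map
    (MvPolynomial.aeval v).toRingHom.toAddMonoidHom

theorem degGE_mul {a b : ℕ} {x y : L} (hx : x ∈ degGE v a) (hy : y ∈ degGE v b) : x * y ∈ degGE v (a + b) := by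
  obtain ⟨p, hp, rfl⟩ := hx
  obtain ⟨q, hq, rfl⟩ := hy
  exact ⟨p * q, by rw [pow_add]; exact Ideal.mul_mem_mul hp hq, map_mul (MvPolynomial.aeval v) p q⟩

theorem degGE_anti {a b : ℕ} (h : a ≤ b) {x : L} (hx : x ∈ degGE v b) : x ∈ degGE v a := by
  obtain ⟨p, hp, rfl⟩ := hx
  exact ⟨p, Ideal.pow_le_pow_right h hp, rfl⟩

theorem intCast_mem (n : ℤ) : (n : L) ∈ degGE v 0 :=
  ⟨n, by simp, map_intCast (MvPolynomial.aeval v).toRingHom n⟩

theorem one_mem_degGE : (1 : L) ∈ degGE v 0 := by simpa using intCast_mem v 1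

theorem gen_mem (i : ι) : v i ∈ degGE v 1 :=
  ⟨MvPolynomial.X i, by rw [pow_one]; exact Ideal.subset_span ⟨i, rfl⟩, MvPolynomial.aeval_X v i⟩

theorem degGE_eq_bot [Finite ι] (hv : ∀ i, IsNilpotent (v i)) : ∃ M, degGE v M = ⊥ := by
  haveI := Fintype.ofFinite ι
  let I := (Ideal.span (Set.range (MvPolynomial.X : ι → MvPolynomial ι ℤ))).map (MvPolynomial.aeval v).toRingHom
  have hI : IsNilpotent I := by
    have hfg : I.FG := by
      classical
      exact Ideal.FG.map ⟨Finset.univ.image MvPolynomial.X, by simp⟩ _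
    refine hfg.isNilpotent_iff_le_nilradical.2 ?_
    simp only [I, Ideal.map_span, Ideal.span_le]
    rintro _ ⟨_, ⟨i, rfl⟩, rfl⟩
    simpa [mem_nilradical] using hv i
  obtain ⟨M, hM⟩ := hI
  refine ⟨M, le_bot_iff.1 ?_⟩
  rintro _ ⟨p, hp, rfl⟩
  have : (MvPolynomial.aeval v).toRingHom p ∈ I ^ M := by
    rw [← Ideal.map_pow]
    exact Ideal.mem_map_of_mem _ hp
  rw [hM] at this
  exact this

variable {v}

/-- An Adams operation is triangular for the degree. -/
theorem adams_degGE (hL : HasSplitting L Q) (hv : ∀ i, Q.IsLine (v i + 1)) {j : ℕ} (hj : 1 ≤ j) {m : ℕ} {x : L}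
    (hx : x ∈ degGE v m) : adamsOp j x - (j : L) ^ m * x ∈ degGE v (m + 1) := by
  let ψ : L →+* L :=
    { toFun := adamsOp j
      map_one' := adamsOp_one_pos Q hj
      map_mul' := adamsOp_mul_pos hL hj
      map_zero' := adamsOp_zero hj
      map_add' := adamsOp_add hj }
  let I := Ideal.span (Set.range (MvPolynomial.X : ι → MvPolynomial ι ℤ))
  let σ : MvPolynomial ι ℤ →ₐ[ℤ] MvPolynomial ι ℤ :=
    MvPolynomial.aeval fun i => (MvPolynomial.X i + 1) ^ j - 1
  have hσ : ∀ p, ψ (MvPolynomial.aeval v p) = MvPolynomial.aeval v (σ p) := fun p => by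
    show (ψ.comp (MvPolynomial.aeval v).toRingHom) p = ((MvPolynomial.aeval v).comp σ).toRingHom p
    congr 1
    refine MvPolynomial.ringHom_ext (fun z => by simp) (fun i => ?_)
    simp only [RingHom.coe_comp, Function.comp_apply, AlgHom.toRingHom_eq_coe, RingHom.coe_coe,
      AlgHom.coe_comp, MvPolynomial.aeval_X, σ, map_sub, map_pow, map_add, map_one]
    have h := adamsOp_line (hv i) hj
    rw [show v i = (v i + 1) - 1 by ring, map_sub ψ, map_one]
    show adamsOp j (v i + 1) - 1 = _
    rw [h]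
    ring
  have hX : ∀ i, MvPolynomial.X i ∈ I := fun i => Ideal.subset_span ⟨i, rfl⟩
  have hgeom : ∀ i, ∃ c, σ (MvPolynomial.X i) = MvPolynomial.X i * c ∧ c - (j : MvPolynomial ι ℤ) ∈ I := by
    intro i
    refine ⟨∑ k ∈ Finset.range j, (MvPolynomial.X i + 1) ^ k, ?_, ?_⟩
    · rw [MvPolynomial.aeval_X, ← geom_sum_mul, add_sub_cancel_right, mul_comm]
    · have : (∑ k ∈ Finset.range j, ((MvPolynomial.X i : MvPolynomial ι ℤ) + 1) ^ k) - (j : MvPolynomial ι ℤ) =
          ∑ k ∈ Finset.range j, (((MvPolynomial.X i : MvPolynomial ι ℤ) + 1) ^ k - 1) := by simp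
      rw [this]
      refine Ideal.sum_mem _ fun k _ => ?_
      obtain ⟨c, hc⟩ := sub_dvd_pow_sub_pow ((MvPolynomial.X i : MvPolynomial ι ℤ) + 1) 1 k
      rw [one_pow, add_sub_cancel_right] at hc
      rw [hc]
      exact Ideal.mul_mem_right _ _ (hX i)
  have hle : ∀ p ∈ I, σ p ∈ I := fun p hp => by
    have : I.map σ ≤ I := by
      simp only [I, Ideal.map_span, Ideal.span_le]
      rintro _ ⟨_, ⟨i, rfl⟩, rfl⟩
      obtain ⟨c, hc, -⟩ := hgeom i
      rw [hc]
      exact Ideal.mul_mem_right _ _ (hX i)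
    exact this (Ideal.mem_map_of_mem σ hp)
  have h0 : ∀ p, σ p - p ∈ I := fun p => by
    induction p using MvPolynomial.induction_on with
    | C r => simp
    | add p q hp hq => rw [map_add, add_sub_add_comm]; exact add_mem hp hq
    | mul_X p i hp =>
      rw [map_mul]
      exact sub_mem (Ideal.mul_mem_left _ _ (hle _ (hX i))) (Ideal.mul_mem_left _ _ (hX i))
  have h1 : ∀ i, σ (MvPolynomial.X i) - (j : MvPolynomial ι ℤ) * MvPolynomial.X i ∈ I * I := fun i => by
    obtain ⟨c, hc, hcj⟩ := hgeom i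
    rw [hc, show MvPolynomial.X i * c - (j : MvPolynomial ι ℤ) * MvPolynomial.X i =
      MvPolynomial.X i * (c - (j : MvPolynomial ι ℤ)) by ring]
    exact Ideal.mul_mem_mul (hX i) hcj
  have hpow : ∀ m, ∀ p ∈ I ^ m, σ p - (j : MvPolynomial ι ℤ) ^ m * p ∈ I ^ (m + 1) := by
    intro m
    induction m with
    | zero => intro p _; simpa using h0 p
    | succ m ih =>
      intro p hp
      rw [pow_succ] at hp
      induction hp using Submodule.mul_induction_on' with
      | mem_mul_mem a ha b hb =>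
        have hb' : σ b - (j : MvPolynomial ι ℤ) * b ∈ I * I := by
          refine Submodule.span_induction (p := fun b _ => σ b - (j : MvPolynomial ι ℤ) * b ∈ I * I) ?_ ?_ ?_ ?_ hb
          · rintro _ ⟨i, rfl⟩; exact h1 i
          · simp
          · intro x y _ _ hx hy; rw [map_add, mul_add, add_sub_add_comm]; exact add_mem hx hy
          · intro c x hx' hx
            rw [smul_eq_mul, map_mul, show σ c * σ x - (j : MvPolynomial ι ℤ) * (c * x) =
              σ c * (σ x - j * x) + (σ c - c) * (j * x) by ring]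
            exact add_mem (Ideal.mul_mem_left _ _ hx) (Ideal.mul_mem_mul (h0 c) (Ideal.mul_mem_left _ _ hx'))
        rw [map_mul, show σ a * σ b - (j : MvPolynomial ι ℤ) ^ (m + 1) * (a * b) =
          (σ a - (j : MvPolynomial ι ℤ) ^ m * a) * σ b + ((j : MvPolynomial ι ℤ) ^ m * a) * (σ b - j * b) by ring,
          pow_succ I (m + 1)]
        refine add_mem (Ideal.mul_mem_mul (ih a ha) (hle b hb)) ?_
        rw [pow_succ, mul_assoc]
        exact Ideal.mul_mem_mul (Ideal.mul_mem_left _ _ ha) hb'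
      | add a _ b _ ha hb => rw [map_add, mul_add, add_sub_add_comm]; exact add_mem ha hb
  obtain ⟨p, hp, rfl⟩ := hx
  refine ⟨σ p - (j : MvPolynomial ι ℤ) ^ m * p, hpow m p hp, ?_⟩
  show MvPolynomial.aeval v (σ p - _) = ψ (MvPolynomial.aeval v p) - (j : L) ^ m * MvPolynomial.aeval v p
  rw [map_sub, ← hσ, map_mul, map_pow, map_natCast]

theorem prod_mem_degGE {α : Type*} (l : List α) (deg : α → ℕ) (f : α → L) (h : ∀ a ∈ l, f a ∈ degGE v (deg a)) :
    (l.map f).prod ∈ degGE v (l.map deg).sum := by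
  induction l with
  | nil => simpa using one_mem_degGE v
  | cons a l ih =>
    simp only [List.map_cons, List.prod_cons, List.sum_cons]
    exact degGE_mul v (h a List.mem_cons_self) (ih fun b hb => h b (List.mem_cons_of_mem _ hb))

/-- The gamma operations respect the degree on the sub-ring of split classes. -/
def GoodEl (v : ι → L) (y : L) : Prop := ∀ k, gamma k y ∈ degGE v k

theorem goodEl_add {x y : L} (hx : GoodEl v x) (hy : GoodEl v y) : GoodEl v (x + y) := fun k => by
  have h := congrArg (PowerSeries.coeff k) (gammaSeries_add x y)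
  rw [PowerSeries.coeff_mul, gammaSeries, PowerSeries.coeff_mk] at h
  rw [h]
  refine AddSubgroup.sum_mem _ fun p hp => ?_
  rw [Finset.HasAntidiagonal.mem_antidiagonal] at hp
  rw [← hp, gammaSeries, gammaSeries, PowerSeries.coeff_mk, PowerSeries.coeff_mk]
  exact degGE_mul v (hx _) (hy _)

theorem goodEl_zero : GoodEl v (0 : L) := fun k => by
  rcases k with _ | k
  · rw [gamma_zero]; exact one_mem_degGE v
  · have h := congrArg (PowerSeries.coeff (k + 1)) (gammaSeries_zero (K := L))
    rw [gammaSeries, PowerSeries.coeff_mk, PowerSeries.coeff_one, if_neg k.succ_ne_zero] at h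
    rw [h]; exact zero_mem _

theorem goodEl_line (hv : ∀ i, Q.IsLine (v i + 1)) (i : ι) : GoodEl v (v i) ∧ GoodEl v (-(v i)) := by
  have h := gammaSeries_line_sub_one (lam_one_eq_zero_of_pos Q) (line_lam (hv i))
  rw [add_sub_cancel_right] at h
  have h2 := gammaSeries_neg_mul (v i)
  rw [h] at h2
  have hneg : ∀ k, gamma k (-(v i)) = (-(v i)) ^ k := by
    intro k
    induction k with
    | zero => rw [gamma_zero, pow_zero]
    | succ k ih =>
      have h3 := congrArg (PowerSeries.coeff (k + 1)) h2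
      rw [mul_add, mul_one, map_add, ← mul_assoc, PowerSeries.coeff_succ_mul_X, PowerSeries.coeff_mul_C,
        PowerSeries.coeff_one, if_neg k.succ_ne_zero, gammaSeries, PowerSeries.coeff_mk, PowerSeries.coeff_mk] at h3
      rw [pow_succ, ← ih]
      linear_combination h3
  constructor
  · intro k
    rcases k with _ | _ | k
    · rw [gamma_zero]; exact one_mem_degGE v
    · rw [gamma_one]; exact gen_mem v i
    · have h3 := congrArg (PowerSeries.coeff (k + 2)) h
      rw [gammaSeries, PowerSeries.coeff_mk, map_add, PowerSeries.coeff_succ_mul_X, PowerSeries.coeff_C,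
        PowerSeries.coeff_one, if_neg k.succ_ne_zero, if_neg (by omega), add_zero] at h3
      rw [h3]; exact zero_mem _
  · intro k
    rw [hneg]
    induction k with
    | zero => rw [pow_zero]; exact one_mem_degGE v
    | succ k ih => rw [pow_succ]; exact degGE_mul v ih (neg_mem (gen_mem v i))

theorem goodEl_multiset {s : Multiset L} (h : ∀ x ∈ s, GoodEl v x) : GoodEl v s.sum := by
  induction s using Multiset.induction with
  | empty => exact goodEl_zero
  | cons a s ih =>
    rw [Multiset.sum_cons]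
    exact goodEl_add (h a (Multiset.mem_cons_self a s)) (ih fun x hx => h x (Multiset.mem_cons_of_mem hx))

end Deg

theorem bottN_sum_lines {s : Multiset L} (hs : ∀ u ∈ s, Q.IsLine u) (j : ℕ) :
    bottN s.card j s.sum = (s.map fun u => ∑ k ∈ Finset.range j, u ^ k).prod := by
  obtain ⟨l, rfl⟩ := Quot.exists_rep s
  set n := l.length
  have hs' : (l : Multiset L) = (Finset.univ : Finset (Fin n)).val.map l.get := by
    rw [Fin.univ_val_map, List.ofFn_get]
  let ev : MvPolynomial (Fin n) ℤ →ₐ[ℤ] L := MvPolynomial.aeval l.get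
  show bottN n j (l : Multiset L).sum = ((l : Multiset L).map _).prod
  have h : (fun i : Fin n => LambdaOps.lam (i.1 + 1) (l : Multiset L).sum) =
      fun i => ev (MvPolynomial.esymm (Fin n) ℤ (i.1 + 1)) := funext fun i => by
    rw [lam_sum_lines (s := (l : Multiset L)) hs]
    change _ = MvPolynomial.aeval l.get _
    rw [MvPolynomial.aeval_esymm_eq_multiset_esymm, ← hs']
  rw [bottN, h, ← MvPolynomial.comp_aeval_apply]
  have key : MvPolynomial.aeval (fun i : Fin n => MvPolynomial.esymm (Fin n) ℤ (i.1 + 1)) (KRR.bottPoly j n) =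
      KRR.bottSym j n := by
    rw [KRR.bottPoly, ← MvPolynomial.esymmAlgHom_apply]
    exact congrArg Subtype.val (AlgEquiv.apply_symm_apply
      (MvPolynomial.esymmAlgEquiv (Fin n) ℤ (Fintype.card_fin _)) _)
  rw [key, KRR.bottSym, map_prod]
  conv_rhs => rw [hs', Multiset.map_map]
  exact Finset.prod_congr rfl fun i _ => by simp [ev]

variable {K' : Type u} [CommRing K'] [LambdaOps K'] {P' : PosStructure K'}

/-- The rational γ-filtration is shifted by a map satisfying Riemann-Roch. -/
theorem mem_of_rr (hK : HasSplitting K P) (hK' : HasSplitting K' P')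
    (hnil : ∀ x, P.aug x = 0 → IsNilpotent x) (h : K →+ K') {c : K} (d : ℕ)
    (hc : d = 0 ∨ (c ∈ P.pos ∧ P.aug c = (d : ℤ)))
    (hrr : ∀ x, adamsOp 2 (h x) = h (bottN d 2 c * adamsOp 2 x))
    (n : ℕ) {x : K} (hx : x ∈ gammaFiltration P n) :
    ∃ N : ℕ, 1 ≤ N ∧ (N : K') * h x ∈ gammaFiltration P' (n + d) := by
  classical
  -- the finitely many bundles involved
  obtain ⟨T, hT⟩ : ∃ T : List K, (∀ e ∈ T, e ∈ P.pos) ∧
      ∀ (L : PosLambdaRing.{u}) (g : K →+* L.carrier), IsExtension P L.posStr g → ∀ (ι : Type) (v : ι → L.carrier),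
        (∀ i, L.posStr.IsLine (v i + 1)) →
        (∀ e ∈ T, ∃ s : Multiset L.carrier, (∀ u ∈ s, ∃ i, v i + 1 = u) ∧ s.sum = g e) → g x ∈ degGE v n := by
    rcases eq_or_ne n 0 with rfl | hn
    · obtain ⟨e, f, he, hf, hx'⟩ := P.exists_sub x
      refine ⟨[e, f], by simp [he, hf], fun L g hg ι v hv hs => ?_⟩
      obtain ⟨s, hs1, hs2⟩ := hs e (by simp)
      obtain ⟨t, ht1, ht2⟩ := hs f (by simp)
      have hsum : ∀ s : Multiset L.carrier, (∀ u ∈ s, ∃ i, v i + 1 = u) → s.sum ∈ degGE v 0 := fun s hs =>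
        AddSubgroup.multiset_sum_mem _ s fun u hu => by
          obtain ⟨i, rfl⟩ := hs u hu
          exact add_mem (degGE_anti v (Nat.zero_le 1) (gen_mem v i)) (one_mem_degGE v)
      rw [hx', map_sub, ← hs2, ← ht2]
      exact sub_mem (hsum s hs1) (hsum t ht1)
    refine gammaFiltration_induction (motive := fun z => ∃ T : List K, (∀ e ∈ T, e ∈ P.pos) ∧
      ∀ (L : PosLambdaRing.{u}) (g : K →+* L.carrier), IsExtension P L.posStr g → ∀ (ι : Type) (v : ι → L.carrier),
        (∀ i, L.posStr.IsLine (v i + 1)) →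
        (∀ e ∈ T, ∃ s : Multiset L.carrier, (∀ u ∈ s, ∃ i, v i + 1 = u) ∧ s.sum = g e) → g z ∈ degGE v n)
      hn hx (fun l hl1 hl2 => ?_) ⟨[], by simp, fun _ _ _ _ _ _ _ => by rw [map_zero]; exact zero_mem _⟩
      (fun a b ⟨Ta, hTa, ha⟩ ⟨Tb, hTb, hb⟩ => ⟨Ta ++ Tb, by simpa [or_imp, forall_and] using ⟨hTa, hTb⟩,
        fun L g hg ι v hv hs => by
          rw [map_add]
          exact add_mem (ha L g hg ι v hv fun e he => hs e (List.mem_append_left _ he))
            (hb L g hg ι v hv fun e he => hs e (List.mem_append_right _ he))⟩)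
      (fun a ⟨Ta, hTa, ha⟩ => ⟨Ta, hTa, fun L g hg ι v hv hs => by
        rw [map_neg]; exact neg_mem (ha L g hg ι v hv hs)⟩)
    choose E F hE hF hEF using P.exists_sub
    refine ⟨(l.map fun p => E p.2) ++ (l.map fun p => F p.2), by
      simp only [List.mem_append, List.mem_map]; rintro e (⟨p, -, rfl⟩ | ⟨p, -, rfl⟩)
      exacts [hE _, hF _], fun L g hg ι v hv hs => ?_⟩
    rw [map_list_prod, List.map_map]
    refine degGE_anti v hl2 (prod_mem_degGE l Prod.fst _ fun p hp => ?_)
    show g (gamma p.1 p.2) ∈ _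
    rw [map_gamma hg.isLambdaHom]
    obtain ⟨s, hs1, hs2⟩ := hs (E p.2) (List.mem_append_left _ (List.mem_map.2 ⟨p, hp, rfl⟩))
    obtain ⟨t, ht1, ht2⟩ := hs (F p.2) (List.mem_append_right _ (List.mem_map.2 ⟨p, hp, rfl⟩))
    have hline : ∀ s : Multiset L.carrier, (∀ u ∈ s, ∃ i, v i + 1 = u) → ∀ u ∈ s, L.posStr.IsLine u :=
      fun s hs u hu => by obtain ⟨i, rfl⟩ := hs u hu; exact hv i
    have hcard : s.card = t.card := by
      have h1 := aug_sum_lines (hline s hs1)
      have h2 := aug_sum_lines (hline t ht1)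
      rw [hs2, hg.aug_comp] at h1
      rw [ht2, hg.aug_comp] at h2
      have h3 := congrArg P.aug (hEF p.2)
      rw [hl1 p hp, map_sub, h1, h2] at h3
      omega
    have hneg : (t.map fun u => -(u - 1)).sum = -(t.map fun u => u - 1).sum :=
      Multiset.sum_map_neg
    have hgp : g p.2 = (s.map (· - 1)).sum + (t.map fun u => -(u - 1)).sum := by
      conv_lhs => rw [hEF p.2]
      rw [map_sub, ← hs2, ← ht2, Multiset.sum_map_sub, Multiset.map_id', Multiset.map_const',
        Multiset.sum_replicate, hneg, Multiset.sum_map_sub, Multiset.map_id', Multiset.map_const',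
        Multiset.sum_replicate, hcard]
      ring
    rw [hgp]
    refine goodEl_add (goodEl_multiset fun z hz => ?_) (goodEl_multiset fun z hz => ?_) p.1
    · obtain ⟨u, hu, rfl⟩ := Multiset.mem_map.1 hz
      obtain ⟨i, rfl⟩ := hs1 u hu
      simpa using (goodEl_line hv i).1
    · obtain ⟨u, hu, rfl⟩ := Multiset.mem_map.1 hz
      obtain ⟨i, rfl⟩ := ht1 u hu
      simpa using (goodEl_line hv i).2
  -- one splitting for everything
  obtain ⟨hTpos, hTdeg⟩ := hT
  let T' := if d = 0 then T else c :: T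
  have hT'pos : ∀ e ∈ T', e ∈ P.pos := by
    rcases Nat.eq_zero_or_pos d with hd | hd
    · simpa [T', hd] using hTpos
    · simp only [T', hd.ne', if_false, List.mem_cons]
      rintro e (rfl | he)
      exacts [(hc.resolve_left hd.ne').1, hTpos e he]
  obtain ⟨L, g, hg, hL, hsp⟩ := exists_split_list hK T' hT'pos
  choose S hS1 hS2 using hsp
  let ℓ : List L.carrier := T'.attach.flatMap fun e => (S e.1 e.2).toList
  have hmem : ∀ (e : K) (he : e ∈ T') (u : L.carrier), u ∈ S e he → u ∈ ℓ := fun e he u hu =>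
    List.mem_flatMap.2 ⟨⟨e, he⟩, List.mem_attach _ _, Multiset.mem_toList.2 hu⟩
  have hℓ : ∀ u ∈ ℓ, ∃ (e : K) (he : e ∈ T'), u ∈ S e he := fun u hu => by
    obtain ⟨⟨e, he⟩, -, hu⟩ := List.mem_flatMap.1 hu
    exact ⟨e, he, Multiset.mem_toList.1 hu⟩
  let v : Fin ℓ.length → L.carrier := fun i => ℓ.get i - 1
  have hv : ∀ i, L.posStr.IsLine (v i + 1) := fun i => by
    obtain ⟨e, he, hu⟩ := hℓ _ (ℓ.get_mem i)
    simpa [v] using hS1 e he _ hu
  have hvnil : ∀ i, IsNilpotent (v i) := fun i => by
    obtain ⟨e, he, hu⟩ := hℓ _ (ℓ.get_mem i)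
    exact isNilpotent_line_sub_one_of_split hnil hg (hS1 e he) (hS2 e he) hu
  have hidx : ∀ (e : K) (he : e ∈ T') (u : L.carrier), u ∈ S e he → ∃ i, v i + 1 = u := fun e he u hu => by
    obtain ⟨i, hi⟩ := List.get_of_mem (hmem e he u hu)
    exact ⟨i, by simp only [v, sub_add_cancel]; exact hi⟩
  have hxdeg : g x ∈ degGE v n := hTdeg L g hg _ v hv fun e he => by
    have he' : e ∈ T' := by simp only [T']; split_ifs <;> simp [he]
    exact ⟨S e he', hidx e he', hS2 e he'⟩
  -- the class of Bott
  have hθ : g (bottN d 2 c) - (2 : L.carrier) ^ d ∈ degGE v 1 ∧ g (bottN d 2 c) ∈ degGE v 0 := by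
    rcases Nat.eq_zero_or_pos d with hd | hd
    · subst hd
      rw [bottN_zero, map_one, pow_zero, sub_self]
      exact ⟨zero_mem _, one_mem_degGE v⟩
    · have hcT : c ∈ T' := by simp [T', hd.ne']
      have hcard : (S c hcT).card = d := by
        have h1 := aug_sum_lines (hS1 c hcT)
        rw [hS2 c hcT, hg.aug_comp, (hc.resolve_left hd.ne').2] at h1
        omega
      have hb : g (bottN d 2 c) = ((S c hcT).map fun u => ∑ k ∈ Finset.range 2, u ^ k).prod := by
        rw [← bottN_sum_lines (hS1 c hcT), hcard, hS2 c hcT, bottN, Lambda.map_aeval_int, bottN]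
        exact congrArg (fun w => MvPolynomial.aeval w (KRR.bottPoly 2 d))
          (funext fun i => hg.isLambdaHom _ _)
      rw [hb, ← hcard]
      have main : ∀ s : Multiset L.carrier, (∀ u ∈ s, ∃ i, v i + 1 = u) →
          ((s.map fun u => ∑ k ∈ Finset.range 2, u ^ k).prod - (2 : L.carrier) ^ s.card ∈ degGE v 1 ∧
            (s.map fun u => ∑ k ∈ Finset.range 2, u ^ k).prod ∈ degGE v 0) := by
        intro s
        induction s using Multiset.induction with
        | empty => intro _; simp [one_mem_degGE v, zero_mem]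
        | cons u s ih =>
          intro hs
          obtain ⟨i, hi⟩ := hs u (Multiset.mem_cons_self u s)
          obtain ⟨ih1, ih2⟩ := ih fun w hw => hs w (Multiset.mem_cons_of_mem hw)
          have hf : (∑ k ∈ Finset.range 2, u ^ k) = 2 + v i := by
            rw [← hi]; simp [Finset.sum_range_succ]; ring
          rw [Multiset.map_cons, Multiset.prod_cons, Multiset.card_cons, hf]
          have hA : v i * (s.map fun u => ∑ k ∈ Finset.range 2, u ^ k).prod ∈ degGE v 1 := by
            simpa using degGE_mul v (gen_mem v i) ih2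
          have hB : (2 : L.carrier) ∈ degGE v 0 := by exact_mod_cast intCast_mem v 2
          refine ⟨?_, ?_⟩
          · rw [show (2 + v i) * (s.map fun u => ∑ k ∈ Finset.range 2, u ^ k).prod - (2 : L.carrier) ^ (s.card + 1) =
              2 * ((s.map fun u => ∑ k ∈ Finset.range 2, u ^ k).prod - (2 : L.carrier) ^ s.card) +
                v i * (s.map fun u => ∑ k ∈ Finset.range 2, u ^ k).prod by ring]
            refine add_mem ?_ hA
            simpa using degGE_mul v hB ih1
          · simpa using degGE_mul v (add_mem hB (degGE_anti v (Nat.zero_le 1) (gen_mem v i))) ih2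
      exact main _ (hidx c hcT)
  -- the induction
  obtain ⟨M, hM⟩ := degGE_eq_bot v hvnil
  suffices key : ∀ (k n : ℕ) (x : K), M ≤ n + k → g x ∈ degGE v n →
      ∃ N : ℕ, 1 ≤ N ∧ (N : K') * h x ∈ gammaFiltration P' (n + d) from
    key M n x (Nat.le_add_left M n) hxdeg
  intro k
  induction k with
  | zero =>
    intro n x hn hx
    have h0 := degGE_anti v (show M ≤ n by omega) hx
    rw [hM, AddSubgroup.mem_bot] at h0
    rw [hg.injective (h0.trans (map_zero g).symm), map_zero]
    exact ⟨1, le_rfl, by simp⟩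
  | succ k ih =>
    intro n x hn hx
    have hz : g (bottN d 2 c * adamsOp 2 x - ((2 ^ (n + d) : ℕ) : K) * x) ∈ degGE v (n + 1) := by
      rw [map_sub, map_mul, map_mul, map_natCast, map_adamsOp hg.isLambdaHom]
      have e1 := adams_degGE hL hv (j := 2) (by omega) hx
      have hxa : g (bottN d 2 c) * (adamsOp 2 (g x) - ((2 : ℕ) : L.carrier) ^ n * g x) ∈ degGE v (n + 1) := by
        simpa using degGE_mul v hθ.2 e1
      have hxb : (g (bottN d 2 c) - (2 : L.carrier) ^ d) * (((2 : ℕ) : L.carrier) ^ n * g x) ∈ degGE v (n + 1) := by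
        rw [Nat.add_comm n 1]
        refine degGE_mul v hθ.1 ?_
        rw [← Nat.cast_pow]
        simpa using degGE_mul v (intCast_mem v ((2 ^ n : ℕ) : ℤ)) hx
      convert add_mem hxa hxb using 1
      push_cast
      ring
    obtain ⟨N, hN, hNz⟩ := ih (n + 1) _ (by omega) hz
    refine S3795.result K' P' hK' 2 le_rfl (n + d) (h x) ⟨N, hN, ?_⟩
    rw [Lambda.adams_eq P' (by omega), hrr, show n + d + 1 = n + 1 + d by omega]
    rw [map_sub, ← nsmul_eq_mul (2 ^ (n + d)) x, map_nsmul, nsmul_eq_mul, Nat.cast_pow] at hNz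
    exact hNz

end Groth.Agent.NormDef
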