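import Groth.Agent.NormDef.Models
import Groth.Agent.NormDef.FilPush
import Groth.Agent.KSplit.GammaModel
import Groth.Agent.K0ResLF.Ample
import Groth.Agent.S3743
import Groth.Agent.S3776
import Groth.Agent.TMul.Pullback
import Groth.Agent.TMul.AmpleComp
import Groth.Agent.HilbFib.ProjBase

/-!
The rational γ-filtration under the push-forward along a regular closed immersion.
-/

set_option autoImplicit false
set_option linter.style.haveILetI false
set_option linter.unusedSectionVars false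
set_option backward.isDefEq.respectTransparency false
set_option backward.isDefEq.respectTransparency.types false

universe v u

open CategoryTheory CategoryTheory.Limits AlgebraicGeometry LambdaRing
open Groth.Agent.SGA6Ext (cls pullK mulK kvbRing kvbLam kvbPos)
open Groth.Agent.K0ResLF (IsPush)

attribute [local instance] HasDerivedCategory.standard

noncomputable section

namespace Groth.Agent.NormDef

attribute [local instance] kvbRing kvbLam

variable {X Y : Scheme.{u}}

theorem isNilpotent_kvb [IsNoetherian X] [ConnectedSpace ↥X] {L : X.Modules} (hL : CohB1.IsAmple L)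
    (x : SGA6.Kvb X) (hx : (kvbPos X).aug x = 0) : IsNilpotent x :=
  isNilpotent_of_aug (Groth.Agent.S3743.result X (SGA6.Kvb X) (kvbPos X) (AddMonoidHom.id _) (KSplit.isModel_kvb X) L hL) hx

/-- The projective space over a scheme with an ample bundle has one. -/
theorem exists_isAmple_PY (n : ℕ) {L : Y.Modules} (hL : CohB1.IsAmple L) :
    ∃ L' : (KRR.PY n Y).Modules, CohB1.IsAmple L' := by
  obtain ⟨n₀, hn₀⟩ := TMul.exists_isAmple_tensor_pullback (KRR.pr n Y) (HilbFib.isRelAmple_twistOver (n := n) (S := Y)) hL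
  exact ⟨_, hn₀ n₀ le_rfl⟩

/-- The shift of the filtration on models. -/
theorem fil_pushCl [IsNoetherian Y] [ConnectedSpace ↥Y] {L : Y.Modules} (hL : CohB1.IsAmple L) (f : X ⟶ Y)
    (hf : Mor2.IsRegularClosedImmersion f) [ConnectedSpace ↥X] {d : ℕ}
    (hC : FlatMod.IsFinLocFreeOfRank d (Omega.conormal f))
    {KX : Type v} [CommRing KX] [LambdaOps KX] {PX : PosStructure KX} {φX : SGA6.Kvb X →+ KX}
    (hX : KRR.IsModel X KX PX φX) {KY : Type v} [CommRing KY] [LambdaOps KY] {PY : PosStructure KY}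
    {φY : SGA6.Kvb Y →+ KY} (hY : KRR.IsModel Y KY PY φY) {h : KX →+ KY} (hh : KRR.IsPushCl f φX φY h)
    (n : ℕ) {x : KX} (hx : x ∈ gammaFiltration PX n) :
    ∃ N : ℕ, 1 ≤ N ∧ (N : KY) * h x ∈ gammaFiltration PY (n + d) := by
  haveI := hf.1
  haveI : IsLocallyNoetherian X := LocallyOfFiniteType.isLocallyNoetherian f
  haveI : CompactSpace ↥X := QuasiCompact.compactSpace_of_compactSpace f
  haveI : IsNoetherian X := {}
  have hYe : KRR.HasEnoughLocFree Y := fun F hF => ResDesc.hasResolutionProperty_of_isAmple L hL F hF.1 hF.2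
  have hLX := TMul.isAmple_pullback f f.isClosedEmbedding.isInducing hL
  obtain ⟨a, ha, hah⟩ := exists_push_model hY hh
  obtain ⟨y, rfl⟩ := hX.bijective.2 x
  have hXk := KSplit.isModel_kvb X
  have hYk := KSplit.isModel_kvb Y
  have hy : y ∈ gammaFiltration (kvbPos X) n := (KSplit.mem_model_iff hX n y).1 hx
  have hc : d = 0 ∨ (cls (Omega.conormal f) ∈ (kvbPos X).pos ∧ (kvbPos X).aug (cls (Omega.conormal f)) = (d : ℤ)) := by
    rcases Nat.eq_zero_or_pos d with hd | hd
    · exact Or.inl hd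
    · exact Or.inr ⟨(hXk.mem_pos_iff _).2 ⟨d, _, hd, hC, rfl⟩, hXk.aug_cl d _ hC⟩
  obtain ⟨N, hN, hmem⟩ := mem_of_rr (KSplit.hasSplitting _ _ _ hXk) (KSplit.hasSplitting _ _ _ hYk)
    (fun z hz => isNilpotent_kvb hLX z hz) a d hc
    (fun z => adams_push hYe f hf hC ha (j := 2) (by omega) z) n hy
  refine ⟨N, hN, ?_⟩
  have h2 := (KSplit.mem_model_iff hY (n + d) _).2 hmem
  rwa [← hah, ← nsmul_eq_mul, ← map_nsmul, nsmul_eq_mul]

/-- The shift along a composite with a projection of a projective space. -/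
theorem fil_push_comp [IsNoetherian Y] [ConnectedSpace ↥Y] {L : Y.Modules} (hL : CohB1.IsAmple L) (n : ℕ)
    (i : X ⟶ KRR.PY n Y) (hi : Mor2.IsRegularClosedImmersion i) [ConnectedSpace ↥X] {c : ℕ}
    (hC : FlatMod.IsFinLocFreeOfRank c (Omega.conormal i))
    {KX : Type v} [CommRing KX] [LambdaOps KX] {PX : PosStructure KX} {φX : SGA6.Kvb X →+ KX}
    (hX : KRR.IsModel X KX PX φX) {KP : Type v} [CommRing KP] [LambdaOps KP] {PP : PosStructure KP}
    {φP : SGA6.Kvb (KRR.PY n Y) →+ KP} (hP : KRR.IsModel (KRR.PY n Y) KP PP φP)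
    {KY : Type v} [CommRing KY] [LambdaOps KY] {PY : PosStructure KY}
    {φY : SGA6.Kvb Y →+ KY} (hY : KRR.IsModel Y KY PY φY) {a : KX →+ KP} (ha : KRR.IsPushCl i φX φP a)
    {b : KP →+ KY} (hb : KRR.IsPushPr n Y φP φY b) (k : ℕ) {x : KX} (hx : x ∈ gammaFiltration PX k) :
    ∃ N : ℕ, 1 ≤ N ∧ (N : KY) * b (a x) ∈ gammaFiltration PY (k + c - n) := by
  obtain ⟨hNP, hCP⟩ := K0ResLF.RR.stable_bunPn (n := n) (Y := Y)
  obtain ⟨L', hL'⟩ := exists_isAmple_PY n hL
  obtain ⟨N, hN, hmem⟩ := fil_pushCl hL' i hi hC hX hP ha k hx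
  refine ⟨N, hN, ?_⟩
  have h2 := Groth.Agent.S3776.result n Y KP PP φP hP KY PY φY hY b hb (k + c) _ hmem
  rwa [← nsmul_eq_mul, map_nsmul, nsmul_eq_mul] at h2

end Groth.Agent.NormDef
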