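import Groth.Agent.NormDef.Space
import Groth.Agent.Conormal.Maps
import Groth.Agent.W7Slope.Twist
import Groth.Agent.SymAlg.InvDual
import Groth.Agent.ThickSys.Sys
import Groth.Agent.KSplit.Tower
import Groth.Agent.WeakAssLib.Basic
import Groth.Agent.ZeroSch.Basic

/-!
The exceptional divisor of the deformation and the section cut out on it by the strict transform.
-/

set_option autoImplicit false
set_option linter.style.haveILetI false
set_option linter.unusedSectionVars false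
set_option backward.isDefEq.respectTransparency false
set_option backward.isDefEq.respectTransparency.types false
set_option maxHeartbeats 1000000

universe u

open CategoryTheory CategoryTheory.Limits AlgebraicGeometry TopologicalSpace
open Groth.Agent.Wiebe (Acyclic)
open Groth.Agent.BlowCech (Charts rho)
open Groth.Agent.BlowExcBundle (cf cf_spec cf_self)
open Groth.Agent.QC (res resO app_res)

noncomputable section

namespace Groth.Agent.NormDef

theorem isPullback_of_ker {A B S T : Scheme.{u}} {k : A ⟶ B} [IsClosedImmersion k] {r : A ⟶ S} {g : B ⟶ T}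
    {i : S ⟶ T} [IsClosedImmersion i] (w : k ≫ g = r ≫ i) (h : k.ker = i.ker.comap g) : IsPullback k r g i := by
  let c : A ⟶ pullback g i := pullback.lift k r w
  have hker : k.ker ≤ (pullback.fst g i).ker := by
    rw [h, Scheme.IdealSheafData.ker_fst_of_isClosedImmersion]
  let d : pullback g i ⟶ A := IsClosedImmersion.lift k (pullback.fst _ _) hker
  have hd : d ≫ k = pullback.fst _ _ := IsClosedImmersion.lift_fac _ _ _
  refine IsPullback.of_iso_pullback ⟨w⟩ ⟨c, d, ?_, ?_⟩ (pullback.lift_fst _ _ _) (pullback.lift_snd _ _ _)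
  · rw [← cancel_mono k, Category.assoc, hd, pullback.lift_fst, Category.id_comp]
  · rw [← cancel_mono (pullback.fst g i), Category.assoc, pullback.lift_fst, hd, Category.id_comp]

/-- An ideal cut out by a cosection, checked on local frames. -/
theorem ideal_eq_span_app {X : Scheme.{u}} {E' : X.Modules} (hE : Coh.IsQCoh E') (t : E' ⟶ Coh.structureModule X)
    (I : X.IdealSheafData)
    (h : ∀ x : X, ∃ (V : X.affineOpens) (n : ℕ) (e : Fin n → Γ(E', V.1)), x ∈ V.1 ∧ TMul.IsFrame e ∧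
      I.ideal V = Ideal.span (Set.range fun l => (show Γ(X, V.1) from t.app V.1 (e l))))
    (U : X.affineOpens) : I.ideal U = Ideal.span {a : Γ(X, U.1) | ∃ s : Γ(E', U.1), (t.app U.1) s = a} := by
  refine U.2.ideal_ext_iff.2 fun p hp => ?_
  obtain ⟨V, n, e, hpV, he, hI⟩ := h p
  obtain ⟨W, hW, hpW, hle⟩ := exists_isAffineOpen_mem_and_subset (x := p) (U := U.1 ⊓ V.1) ⟨hp, hpV⟩
  replace hle : W ≤ U.1 ⊓ V.1 := hle
  have hUW : W ≤ U.1 := hle.trans inf_le_left
  have hVW : W ≤ V.1 := hle.trans inf_le_right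
  let W' : X.affineOpens := ⟨W, hW⟩
  have key : ∀ (A : X.affineOpens) (hA : W ≤ A.1),
      (I.ideal A).map (X.presheaf.germ A.1 p (hA hpW)).hom = (I.ideal W').map (X.presheaf.germ W'.1 p hpW).hom := by
    intro A hA
    rw [← I.map_ideal (U := W') (V := A) hA, Ideal.map_map, ← CommRingCat.hom_comp]
    exact congrArg (fun g : Γ(X, A.1) ⟶ X.presheaf.stalk p => (I.ideal A).map g.hom)
      (X.presheaf.germ_res (homOfLE hA) p hpW).symm
  rw [key U hUW, ← key V hVW, hI, Ideal.map_span, Ideal.map_span, ← Set.range_comp]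
  refine le_antisymm (Ideal.span_le.2 ?_) (Ideal.span_le.2 ?_)
  · rintro _ ⟨l, rfl⟩
    obtain ⟨a, s, ha, has⟩ := WeakAssLib.exists_germ U.2 (QC.isLoc_of_isQCoh U.2 (hM := hE)) hp
      (WeakAssLib.mgerm E' hpV (e l))
    have h2 : WeakAssLib.mgerm E' hpW (resO X hUW a • res E' hVW (e l)) =
        WeakAssLib.mgerm E' hpW (res E' hUW s) := by
      rw [WeakAssLib.mgerm_smul, WeakAssLib.mgerm_res, WeakAssLib.mgerm_res, ← has]
      congr 1
      exact TopCat.Presheaf.germ_res_apply X.presheaf _ p hpW a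
    obtain ⟨W₀, hp₀, i₁, i₂, heq⟩ := E'.presheaf.germ_eq p hpW hpW _ _ h2
    have h3 := congrArg (fun z => (X.presheaf.germ W₀ p hp₀).hom (show Γ(X, W₀) from t.app W₀ z)) heq
    have hs : ∀ z : Γ(E', W), (X.presheaf.germ W₀ p hp₀).hom (show Γ(X, W₀) from t.app W₀ (res E' i₁.le z)) =
        (X.presheaf.germ W p hpW).hom (show Γ(X, W) from t.app W z) := fun z => by
      rw [← app_res]
      exact TopCat.Presheaf.germ_res_apply X.presheaf _ p hp₀ _
    replace h3 := (hs _).symm.trans (h3.trans (hs _))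
    rw [Scheme.Modules.Hom.app_smul, ← app_res, ← app_res] at h3
    replace h3 : (X.presheaf.germ W p hpW).hom (resO X hUW a * resO X hVW (show Γ(X, V.1) from t.app V.1 (e l))) =
        (X.presheaf.germ W p hpW).hom (resO X hUW (show Γ(X, U.1) from t.app U.1 s)) := h3
    have hr : ∀ (A : X.Opens) (hA : W ≤ A) (z : Γ(X, A)), (X.presheaf.germ W p hpW).hom (resO X hA z) =
        (X.presheaf.germ A p (hA hpW)).hom z := fun A hA z => TopCat.Presheaf.germ_res_apply X.presheaf _ p hpW z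
    rw [map_mul, hr, hr, hr] at h3
    show (X.presheaf.germ V.1 p hpV).hom (show Γ(X, V.1) from t.app V.1 (e l)) ∈ _
    obtain ⟨v, hv⟩ := (WeakAssLib.isUnit_germ U.2 hp ha).exists_left_inv
    rw [show (X.presheaf.germ V.1 p hpV).hom (show Γ(X, V.1) from t.app V.1 (e l)) =
      v * (X.presheaf.germ U.1 p hp).hom (show Γ(X, U.1) from t.app U.1 s) by rw [← h3, ← mul_assoc, hv, one_mul]]
    exact Ideal.mul_mem_left _ _ (Ideal.subset_span ⟨_, ⟨s, rfl⟩, rfl⟩)
  · rintro _ ⟨_, ⟨s, rfl⟩, rfl⟩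
    obtain ⟨c, hc⟩ := he.comb_surjective hVW (res E' hUW s)
    have h1 : (X.presheaf.germ U.1 p hp).hom (show Γ(X, U.1) from t.app U.1 s) =
        ∑ l, (X.presheaf.germ W p hpW).hom (c l) *
          (X.presheaf.germ V.1 p hpV).hom (show Γ(X, V.1) from t.app V.1 (e l)) := by
      rw [← TopCat.Presheaf.germ_res_apply X.presheaf (homOfLE hUW) p hpW]
      rw [show (X.presheaf.map (homOfLE hUW).op).hom (show Γ(X, U.1) from t.app U.1 s) =
        ∑ l, c l * resO X hVW (show Γ(X, V.1) from t.app V.1 (e l)) from by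
          refine (app_res t hUW s).trans ?_
          rw [← hc, map_sum]
          exact Finset.sum_congr rfl fun l _ => by rw [Scheme.Modules.Hom.app_smul, ← app_res]; rfl]
      rw [map_sum]
      refine Finset.sum_congr rfl fun l _ => ?_
      rw [map_mul]
      congr 1
      exact TopCat.Presheaf.germ_res_apply X.presheaf _ p hpW _
    show (X.presheaf.germ U.1 p hp).hom (show Γ(X, U.1) from t.app U.1 s) ∈ _
    rw [h1]
    exact Ideal.sum_mem _ fun l _ => Ideal.mul_mem_left _ _ (Ideal.subset_span ⟨l, rfl⟩)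

section Exc

open Deform

variable {X Z P M : Scheme.{u}} {i : Z ⟶ P} [IsClosedImmersion i] {J : P.IdealSheafData} {b : M ⟶ P}
  (D : Deform i J b) {c : X ⟶ P} [IsClosedImmersion c] (hc : c.ker = i.ker ⊔ J)
  {sZ : X ⟶ Z} [IsClosedImmersion sZ] (hw : sZ ≫ i = c) (hsZ : sZ.ker = J.comap i)

/-- The projection of the exceptional divisor. -/
def excπ : D.E.subscheme ⟶ X :=
  IsClosedImmersion.lift c (D.E.subschemeι ≫ b) (by
    rw [hc, ← Scheme.IdealSheafData.map_ker, Scheme.IdealSheafData.ker_subschemeι]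
    exact Scheme.IdealSheafData.le_map_comap _ _)

theorem excπ_fac : excπ D hc ≫ c = D.E.subschemeι ≫ b := IsClosedImmersion.lift_fac _ _ _

theorem isPullback_exc : IsPullback D.E.subschemeι (excπ D hc) b c :=
  isPullback_of_ker (excπ_fac D hc).symm (by rw [Scheme.IdealSheafData.ker_subschemeι, hc])

include D hc hw hsZ

theorem exists_excSect [IsSeparated b] :
    ∃ s : X ⟶ D.E.subscheme, IsPullback s sZ D.E.subschemeι D.F ∧ s ≫ excπ D hc = 𝟙 X := by
  have hE : D.E.comap D.F = J.comap i := by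
    rw [← Scheme.IdealSheafData.comap_comp, F_comp, comap_centre]
  have hle : D.E.subschemeι.ker ≤ (sZ ≫ D.F).ker := by
    rw [Scheme.IdealSheafData.ker_subschemeι, ← Scheme.IdealSheafData.map_ker, hsZ, ← hE]
    exact Scheme.IdealSheafData.le_map_comap _ _
  let s := IsClosedImmersion.lift D.E.subschemeι (sZ ≫ D.F) hle
  have hs : s ≫ D.E.subschemeι = sZ ≫ D.F := IsClosedImmersion.lift_fac _ _ _
  refine ⟨s, (isPullback_of_ker hs.symm ?_).flip, ?_⟩
  · rw [Scheme.IdealSheafData.ker_subschemeι, hE, hsZ]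
  · rw [← cancel_mono c, Category.assoc, excπ_fac, ← Category.assoc, hs, Category.assoc, F_comp, hw, Category.id_comp]

/-- The chart of a point of the exceptional divisor. -/
theorem exists_exc_chart (z : D.E.subscheme) :
    ∃ (U : P.affineOpens) (n : ℕ) (a : Fin (n + 1) → Γ(P, U.1)) (C : Charts b U a) (k : Fin (n + 1)),
      Acyclic (Fin.tail a) ∧ RegMod a ∧ J.ideal U = Ideal.span {a 0} ∧
      i.ker.ideal U = Ideal.span (Set.range (Fin.tail a)) ∧ D.E.subschemeι z ∈ C.D k ∧ sZ (excπ D hc z) ∈ i ⁻¹ᵁ U.1 := by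
  obtain ⟨U, n, a, C, k, ha, hr, hJ, hI, hm⟩ := exists_chart D (D.E.subschemeι z)
  refine ⟨U, n, a, C, k, ha, hr, hJ, hI, hm, ?_⟩
  show i (sZ (excπ D hc z)) ∈ U.1
  rw [← Scheme.Hom.comp_apply, hw, ← Scheme.Hom.comp_apply, excπ_fac, Scheme.Hom.comp_apply]
  exact C.le k hm

variable [IsSeparated b] {d : ℕ} (hC : FlatMod.IsFinLocFreeOfRank d (Omega.conormal i))
  {s : X ⟶ D.E.subscheme} (hsq : IsPullback s sZ D.E.subschemeι D.F)

include hC in
theorem isFinLocFreeOfRank_centre : FlatMod.IsFinLocFreeOfRank (d + 1) (Omega.conormal c) :=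
  W7Strat.isFinLocFreeOfRank_of_frames fun x => by
    obtain ⟨U, n, a, hxU, ha, hr, hJ, hI⟩ := D.eqs (c x)
    obtain rfl : n = d := Deform.card_eq (b := b) hC ha hI (z := sZ x) (by rwa [← Scheme.Hom.comp_apply, hw])
    obtain ⟨σ, -, hσ⟩ := BlowExcBundle.exists_conormal_frame c U a (by rw [hc]; exact ideal_centre hJ hI)
      (BlowExcBundle.quasiRegular_of_acyclic (KoszulLib.acyclic_of_tail ha hr))
    exact ⟨_, _, hxU, hσ⟩

theorem centre_eqs (x : P) : ∃ (U : P.affineOpens) (m : ℕ) (a : Fin m → Γ(P, U.1)), x ∈ U.1 ∧ Acyclic a ∧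
    c.ker.ideal U = Ideal.span (Set.range a) := by
  obtain ⟨U, n, a, hxU, ha, hr, hJ, hI⟩ := D.eqs x
  exact ⟨U, n + 1, a, hxU, KoszulLib.acyclic_of_tail ha hr, by rw [hc]; exact ideal_centre hJ hI⟩

include hC in
/-- The exceptional divisor is a projective bundle over the centre. -/
theorem exists_bun : ∃ B : PBReg.Bun d X, B.P = D.E.subscheme := by
  obtain ⟨φ, hφ, -⟩ := Conormal.existsUnique_conormalMap (i := D.E.subschemeι) (i' := c) (g := b)
    (gZ := excπ D hc) (excπ_fac D hc)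
  exact ⟨⟨_, excπ D hc, _, isFinLocFreeOfRank_centre D hc hw hsZ hC, _, φ,
    BlowExcBundle.isProjBundle_exceptional (isPullback_exc D hc) (hc ▸ D.blowUp)
      (isFinLocFreeOfRank_centre D hc hw hsZ hC) (centre_eqs D hc hw hsZ) hφ⟩, rfl⟩

include hsq in
theorem ker_excSect : s.ker = D.K.comap D.E.subschemeι := by
  rw [ThickSys.ker_of_isPullback hsq, ker_F]

include hsq in
theorem exists_excSect_chart [IsClosedImmersion s] (x : X) :
    ∃ (U : P.affineOpens) (n : ℕ) (a : Fin (n + 1) → Γ(P, U.1)) (C : Charts b U a),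
      Acyclic (Fin.tail a) ∧ RegMod a ∧ J.ideal U = Ideal.span {a 0} ∧
      i.ker.ideal U = Ideal.span (Set.range (Fin.tail a)) ∧ D.E.subschemeι (s x) ∈ C.D 0 ∧ i (sZ x) ∈ U.1 ∧
      s.ker.ideal ⟨D.E.subschemeι ⁻¹ᵁ C.D 0, (C.affine 0).preimage _⟩ =
        Ideal.span (Set.range fun l : Fin n => D.E.subschemeι.app (C.D 0) (cf C 0 l.succ)) ∧
      Acyclic (fun l : Fin n => (D.E.subschemeι.app (C.D 0)).hom (cf C 0 l.succ)) := by
  have hsm : D.E.subschemeι (s x) = D.F (sZ x) := by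
    rw [← Scheme.Hom.comp_apply, hsq.w, Scheme.Hom.comp_apply]
  obtain ⟨U, n, a, C, ha, hr, hJ, hI, hm⟩ := exists_zero_chart D (sZ x)
  refine ⟨U, n, a, C, ha, hr, hJ, hI, hsm ▸ hm, ?_, ?_, ?_⟩
  · have h : b (D.F (sZ x)) ∈ U.1 := C.le 0 hm
    rwa [← Scheme.Hom.comp_apply, F_comp] at h
  · rw [ker_excSect D hc hw hsZ hsq,
      FpqcDescent.ideal_comap_appLE D.K D.E.subschemeι ⟨C.D 0, C.affine 0⟩ _ le_rfl, chart_K D C hJ hI,
      Ideal.map_span, ← Set.range_comp, ← Scheme.Hom.app_eq_appLE]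
    rfl
  · refine (chartData D C hJ hI ha hr).acyclic_trace _ (D.E.subschemeι.app_surjective _ (C.affine 0)) ?_
    rw [D.E.ker_subschemeι_app ⟨C.D 0, C.affine 0⟩, chart_E D C hJ hI]

include hsq in
theorem isRegular_excSect [IsClosedImmersion s] [IsLocallyNoetherian D.E.subscheme] :
    Mor2.IsRegularClosedImmersion s := by
  refine RegMor2.isRegularImmersion_iff.1 ⟨inferInstance, fun x => ?_⟩
  rw [KoszulLib.isRegularImmersionAt_kind_iff .regular .koszul]
  obtain ⟨U, n, a, C, -, -, -, -, hm, -, hker, hac⟩ := exists_excSect_chart D hc hw hsZ hsq x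
  refine ⟨⟨_, (C.affine 0).preimage D.E.subschemeι⟩, hm,
    IsZariskiLocalAtTarget.restrict (P := @IsClosedImmersion) inferInstance _, List.ofFn _,
    KoszulLib.isKoszulRegularSeq_of_acyclic hac, ?_⟩
  rw [← Scheme.Hom.ker_apply s ⟨_, (C.affine 0).preimage D.E.subschemeι⟩, hker, Ideal.ofList]
  refine congrArg Ideal.span (Set.ext fun x => ?_)
  simp [List.mem_ofFn]

include hC hsq in
theorem conormal_excSect [IsClosedImmersion s] : FlatMod.IsFinLocFreeOfRank d (Omega.conormal s) :=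
  W7Strat.isFinLocFreeOfRank_of_frames fun x => by
    obtain ⟨U, n, a, C, ha, -, -, hI, hm, hxU, hker, hac⟩ := exists_excSect_chart D hc hw hsZ hsq x
    obtain rfl : n = d := Deform.card_eq (b := b) hC ha hI hxU
    obtain ⟨σ, -, hσ⟩ := BlowExcBundle.exists_conormal_frame s ⟨_, (C.affine 0).preimage D.E.subschemeι⟩ _ hker
      (BlowExcBundle.quasiRegular_of_acyclic hac)
    exact ⟨_, _, hm, hσ⟩

theorem comp_sZ : (excπ D hc ≫ sZ) ≫ i = D.E.subschemeι ≫ b := by rw [Category.assoc, hw, excπ_fac]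

include hC hsq in
/-- The strict transform is the zero scheme of a cosection on the exceptional divisor. -/
theorem exists_cosection :
    ∃ (L : D.E.subscheme.Modules) (t : CohB1.tensorMod
        ((Scheme.Modules.pullback (excπ D hc ≫ sZ)).obj (Omega.conormal i)) L ⟶ Coh.structureModule D.E.subscheme),
      PicF.IsInvertible L ∧ Nonempty (CohB1.tensorMod (Omega.conormal D.E.subschemeι) L ≅ Coh.structureModule _) ∧
      FlatMod.IsFinLocFreeOfRank d (CohB1.tensorMod
        ((Scheme.Modules.pullback (excπ D hc ≫ sZ)).obj (Omega.conormal i)) L) ∧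
      ∀ U : D.E.subscheme.affineOpens, s.ker.ideal U =
        Ideal.span {y : Γ(D.E.subscheme, U.1) | ∃ σ, (t.app U.1) σ = y} := by
  classical
  let j := D.E.subschemeι
  let p := excπ D hc ≫ sZ
  let E := D.E.subscheme
  obtain ⟨φ, hφ, -⟩ := Conormal.existsUnique_conormalMap (i := j) (i' := i) (g := b) (gZ := p) (comp_sZ D hc hw hsZ)
  have hN : FlatMod.IsFinLocFreeOfRank 1 (Omega.conormal j) := by
    refine BlowExcBundle.isFinLocFreeOfRank_conormal (r := d) (isPullback_exc D hc) ?_ (hc ▸ D.blowUp)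
    exact BlowExcBundle.exists_data c (isFinLocFreeOfRank_centre D hc hw hsZ hC) (centre_eqs D hc hw hsZ)
  have hNi : PicF.IsInvertible (Omega.conormal j) := ZeroSch.isInvertible_of_rankOne hN
  obtain ⟨L, hL, ⟨ε⟩⟩ := SymAlg.exists_inverse hNi
  let t := CohFinite.tmap φ L ≫ ε.hom
  have key : ∀ z : E, ∃ (V : E.affineOpens) (e : Fin d → Γ(CohB1.tensorMod
      ((Scheme.Modules.pullback p).obj (Omega.conormal i)) L, V.1)), z ∈ V.1 ∧ TMul.IsFrame e ∧
      s.ker.ideal V = Ideal.span (Set.range fun l => (show Γ(E, V.1) from t.app V.1 (e l))) := by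
    intro z
    obtain ⟨U, n, a, C, k, ha, hr, hJ, hI, hm, hzU⟩ := exists_exc_chart D hc hw hsZ z
    obtain rfl : n = d := Deform.card_eq (b := b) hC ha hI hzU
    obtain ⟨σ, hσ, hσf⟩ := BlowExcBundle.exists_conormal_frame i U (Fin.tail a) hI
      (BlowExcBundle.quasiRegular_of_acyclic ha)
    obtain ⟨sj, hsj, hsjf⟩ := BlowExcBundle.exists_conormal_frame j ⟨C.D k, C.affine k⟩
      (fun _ : Fin 1 => rho b (C.D k) (C.le k) (a k))
      (by rw [Scheme.IdealSheafData.ker_subschemeι, chart_E D C hJ hI, Set.range_const])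
      (BlowExcBundle.quasiRegular_single (C.nzd k _ (C.le k) (C.gen k)))
    have hleU : j ⁻¹ᵁ C.D k ≤ p ⁻¹ᵁ (i ⁻¹ᵁ U.1) := by
      refine (j.preimage_mono (C.le k)).trans ?_
      rw [← Scheme.Hom.comp_preimage, ← Scheme.Hom.comp_preimage, comp_sZ D hc hw hsZ]
    let gN := OmegaSh.conormalSect j (C.D k) (sj 0)
    have hgN : TMul.IsGen gN := BlowExcBundle.isGen_of_isFrame (by
      rwa [show (fun _ : Fin 1 => gN) = fun l => OmegaSh.conormalSect j (C.D k) (sj l) from
        funext fun l => by rw [Fin.eq_zero l]])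
    have happ : ∀ l : Fin n, φ.app (j ⁻¹ᵁ C.D k) (res _ hleU (OmegaSh.pullSect p (Omega.conormal i) (i ⁻¹ᵁ U.1)
        (OmegaSh.conormalSect i U.1 (σ l)))) = (j.app (C.D k)) (cf C k l.succ) • gN := fun l => by
      have h := Conormal.IsConormalMap.app_class j i b p hφ U.1 (C.D k) (C.le k) hleU (σ l) (cf C k l.succ • sj 0)
        (by rw [Conormal.idealSect_smul, hsj, hσ]; exact cf_spec C k l.succ)
      exact h.trans (Conormal.conormalSect_smul j (C.D k) _ _)
    obtain ⟨O, gL, hzO, hgL⟩ := TMul.exists_isGen hL z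
    obtain ⟨V, hV, hzV, hVle⟩ := exists_isAffineOpen_mem_and_subset (x := z) (U := j ⁻¹ᵁ C.D k ⊓ O) ⟨hm, hzO⟩
    replace hVle : V ≤ j ⁻¹ᵁ C.D k ⊓ O := hVle
    have hV1 : V ≤ j ⁻¹ᵁ C.D k := hVle.trans inf_le_left
    let gL' := res L (hVle.trans inf_le_right) gL
    let fr : Fin n → Γ((Scheme.Modules.pullback p).obj (Omega.conormal i), V) := fun l =>
      res _ (hV1.trans hleU) (OmegaSh.pullSect p (Omega.conormal i) (i ⁻¹ᵁ U.1) (OmegaSh.conormalSect i U.1 (σ l)))
    have hfr : TMul.IsFrame fr := PBundle.isFrame_res (hσf.pullback p) _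
    refine ⟨⟨V, hV⟩, fun l => TMul.tm (fr l) gL', hzV, W7Slope.isFrame_tm hfr (hgL.res _), ?_⟩
    let u : Γ(E, V) := ε.hom.app V (TMul.tm (res _ hV1 gN) gL')
    have hu : IsUnit u := by
      obtain ⟨c₁, hc₁⟩ := (TMul.isGen_tm (hgN.res hV1) (hgL.res _) V le_rfl).2 (ε.inv.app V (1 : Γ(E, V)))
      simp only [QC.res_self] at hc₁
      refine IsUnit.of_mul_eq_one_right c₁ ?_
      have h1 : ε.hom.app V (ε.inv.app V (1 : Γ(E, V))) = (1 : Γ(E, V)) :=
        congrArg (fun q : Coh.structureModule E ⟶ Coh.structureModule E => q.app V (1 : Γ(E, V))) ε.inv_hom_id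
      rw [← hc₁, Scheme.Modules.Hom.app_smul] at h1
      exact h1
    have ht : ∀ l, (show Γ(E, V) from t.app V (TMul.tm (fr l) gL')) =
        resO E hV1 (j.app (C.D k) (cf C k l.succ)) * u := fun l => by
      show ε.hom.app V ((CohFinite.tmap φ L).app V (TMul.tm (fr l) gL')) = _
      rw [CohFinite.tmap_tm]
      have h1 : φ.app V (fr l) = resO E hV1 (j.app (C.D k) (cf C k l.succ)) • res _ hV1 gN := by
        rw [← QC.res_smul, ← happ, app_res, QC.res_res]
      rw [h1, TMul.smul_tm, Scheme.Modules.Hom.app_smul]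
      rfl
    simp only [ht]
    rw [ker_excSect D hc hw hsZ hsq, FpqcDescent.ideal_comap_appLE D.K j ⟨C.D k, C.affine k⟩ ⟨V, hV⟩ hV1,
      chart_K D C hJ hI, Ideal.map_span, ← Set.range_comp]
    refine le_antisymm (Ideal.span_le.2 ?_) (Ideal.span_le.2 ?_) <;> rintro _ ⟨l, rfl⟩
    · obtain ⟨v, hv⟩ := hu.exists_right_inv
      have : (j.appLE (C.D k) V hV1).hom (cf C k l.succ) =
          v * (resO E hV1 (j.app (C.D k) (cf C k l.succ)) * u) := by
        rw [mul_comm v, mul_assoc, hv, mul_one]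
        rfl
      show (j.appLE (C.D k) V hV1).hom (cf C k l.succ) ∈ _
      rw [this]
      exact Ideal.mul_mem_left _ _ (Ideal.subset_span ⟨l, rfl⟩)
    · exact Ideal.mul_mem_right _ _ (Ideal.subset_span ⟨l, rfl⟩)
  have hrank : FlatMod.IsFinLocFreeOfRank d (CohB1.tensorMod ((Scheme.Modules.pullback p).obj (Omega.conormal i)) L) :=
    W7Strat.isFinLocFreeOfRank_of_frames fun z => by
      obtain ⟨V, e, hz, he, -⟩ := key z
      exact ⟨_, _, hz, he⟩
  refine ⟨L, t, hL, ⟨ε⟩, hrank, fun U => ?_⟩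
  refine ideal_eq_span_app (DQCoh.isQCoh_of_isFinLocFree (SGA6Ext.finLocFree_of_rank hrank)) t s.ker
    (fun z => ?_) U
  obtain ⟨V, e, hz, he, hid⟩ := key z
  exact ⟨V, d, e, hz, he, hid⟩

end Exc

end Groth.Agent.NormDef
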