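import Groth.Agent.K0Perf.Instances
import Groth.Agent.KSplit.Pull
import Groth.Agent.S8670
import Groth.Agent.S3202
import Groth.Agent.S4267
import Groth.Agent.K0ResLF.Ample

/-!
The pull-back on Grothendieck groups of bundles along a regular blow-up is injective.
-/

set_option autoImplicit false
set_option linter.style.haveILetI false
set_option backward.isDefEq.respectTransparency false
set_option backward.isDefEq.respectTransparency.types false
set_option maxHeartbeats 1000000

universe u

open CategoryTheory CategoryTheory.Limits AlgebraicGeometry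

attribute [local instance] HasDerivedCategory.standard

noncomputable section

namespace Groth.Agent.NormDef

variable {X X' : Scheme.{u}}

/-- `Lf^*` of a locally free module is its pull-back. -/
theorem nonempty_lpull_vb (f : X' ⟶ X) [DCoh.HasLpull f] {E : X.Modules} (hE : FlatMod.IsFinLocFree E) :
    Nonempty ((DCoh.Lpull f).obj (DCoh.inD X E) ≅ DCoh.inD X' ((Scheme.Modules.pullback f).obj E)) := by
  have hK : DCoh.IsKFlat (PerfLocus.sg X 0 E) := PerfLocus.isKFlat_sg 0 (DerPerf.isFlat_of_isFinLocFree hE)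
  exact ⟨(DCoh.Lpull f).mapIso ((DerivedCategory.singleFunctorIsoCompQ X.Modules 0).app _) ≪≫
    KFlat.lpullIso f hK ≪≫
    DerivedCategory.Q.mapIso
      ((HomologicalComplex.singleMapHomologicalComplex (Scheme.Modules.pullback f) (ComplexShape.up ℤ) 0).app _) ≪≫
    ((DerivedCategory.singleFunctorIsoCompQ X'.Modules 0).app _).symm⟩

/-- A pull-back with `Rf_* O = O` is injective on `K₀` of bundles. -/
theorem pullK_injective (f : X' ⟶ X) [IsNoetherian X] [IsProper f] (hf : MoreMor.IsPerfectMor f)
    (hX : PerfAux.HasResolutionProperty X) [DCoh.HasRpush f] [DCoh.HasLpull f]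
    (e₀ : Nonempty ((DCoh.Rpush f).obj (DCoh.inD X' (Coh.structureModule X')) ≅
      DCoh.inD X (Coh.structureModule X))) :
    Function.Injective (SGA6Ext.pullK f) := by
  classical
  let R : ObjectProperty (DCoh.D X) := fun K => DCoh.IsPerfect K
  let Φ : X'.Modules → KZero.K0tr R := fun E => KZero.clTr R ((DCoh.Rpush f).obj (DCoh.inD X' E))
  have hp : ∀ E : X'.Modules, FlatMod.IsFinLocFree E → R ((DCoh.Rpush f).obj (DCoh.inD X' E)) := fun E hE => by
    haveI : (DCoh.inD X' E).IsGE 0 :=
      inferInstanceAs (((DerivedCategory.singleFunctor X'.Modules 0).obj E).IsGE 0)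
    exact Groth.Agent.S4267.result f hf _ 0 (PerfPush.isPerfect_inD_finLocFree hE)
  obtain ⟨g, hg⟩ : ∃ g : SGA6.Kvb X' →+ KZero.K0tr R,
      ∀ E : X'.Modules, FlatMod.IsFinLocFree E → g (SGA6Ext.cls E) = Φ E := by
    refine ⟨QuotientAddGroup.lift _ (FreeAbelianGroup.lift fun E => Φ E.1) ?_, fun E hE => ?_⟩
    · rw [KZero.relSub, AddSubgroup.closure_le]
      rintro _ ⟨S, h₁, h₂, h₃, hS, rfl⟩
      simp only [SetLike.mem_coe, AddMonoidHom.mem_ker, map_sub, FreeAbelianGroup.lift_apply_of]
      obtain ⟨c, hc⟩ := DerPush.exists_rpush_triangle f _ _ _ hS.singleTriangle_distinguished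
      rw [sub_sub, sub_eq_zero]
      exact PerfLocal.clTr_add _ hc (hp _ h₁) (hp _ h₂) (hp _ h₃)
    · simp only [SGA6Ext.cls, KZero.clSub, dif_pos hE]
      exact FreeAbelianGroup.lift_apply_of _ _
  obtain ⟨e, he, -⟩ := K0Perf.exists_equiv (K0Perf.hyp_scheme hX)
  have hcomp : g.comp (SGA6Ext.pullK f) = e.toAddMonoidHom := SGA6Ext.hom_ext_cls fun E hE => by
    show g (SGA6Ext.pullK f (SGA6Ext.cls E)) = e (SGA6Ext.cls E)
    rw [SGA6Ext.pullK_cls f hE, hg _ (DerPerf.isFinLocFree_pullback f hE)]
    refine Eq.trans ?_ (he E hE).symm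
    obtain ⟨a⟩ := nonempty_lpull_vb f hE
    obtain ⟨b⟩ := Groth.Agent.S8670.nonempty_push_pull f e₀ _ (PerfPush.isPerfect_inD_finLocFree hE)
    exact PerfLocal.clTr_eq_of_iso ((b.symm ≪≫ (DCoh.Rpush f).mapIso a)) DQCoh.perfect_zero
      (PerfPush.isPerfect_inD_finLocFree hE) (hp _ (DerPerf.isFinLocFree_pullback f hE))
  intro x y h
  exact e.injective ((DFunLike.congr_fun hcomp x).symm.trans ((congrArg g h).trans (DFunLike.congr_fun hcomp y)))

variable {Z : Scheme.{u}} {i : Z ⟶ X} {b : X' ⟶ X}

/-- Local data for a nowhere dense regular centre. -/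
theorem locData_of_regular (hi : Mor2.IsRegularClosedImmersion i) (hdense : Dense (Set.range i)ᶜ) :
    BlowCech.LocData i.ker := by
  haveI := hi.1
  intro x
  obtain ⟨U, m, a, hxU, ha, hI⟩ := KoszBlow.exists_acyclic_of_regularImmersion hi x
  refine ⟨U, m, a, hxU, ?_, ha, hI⟩
  by_contra h0
  obtain rfl : m = 0 := by omega
  have hsub : (U.1 : Set X) ⊆ Set.range i := fun y hy => by
    have h := Scheme.IdealSheafData.mem_support_iff_of_mem (I := i.ker) (U := U) hy
    have hs : y ∈ i.ker.support := h.2 (by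
      rw [hI, Scheme.mem_zeroLocus_iff]
      intro c hc
      have h' : c = 0 := by simpa using hc
      rw [h', Scheme.basicOpen_zero]
      simp)
    have h' := (Scheme.Hom.support_ker i).le hs
    rwa [i.isClosedEmbedding.isClosed_range.closure_eq] at h'
  obtain ⟨y, hy, hy'⟩ := hdense.exists_mem_open U.1.2 ⟨x, hxU⟩
  exact hy (hsub hy')

/-- A blow-up of a nowhere dense regular centre has direct image of the structure sheaf equal to it. -/
theorem nonempty_rpush_unit (hi : Mor2.IsRegularClosedImmersion i) (hdense : Dense (Set.range i)ᶜ)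
    (hb : BlowUp.IsBlowUp b i.ker) [DCoh.HasRpush b] :
    Nonempty ((DCoh.Rpush b).obj (DCoh.inD X' (Coh.structureModule X')) ≅
      DCoh.inD X (Coh.structureModule X)) := by
  haveI := DQPush.hasInj X'
  have hJ := locData_of_regular hi hdense
  haveI := BlowCech.isIso_unit hJ hb
  obtain ⟨t⟩ := RatBlow.nonempty_idealMod_top (X := X')
  have hzero : ∀ n : ℕ, n ≠ 0 → IsZero ((Coh.Rpush b n).obj (Coh.structureModule X')) := fun n hn => by
    refine K0ResLF.isZero_rpush_of_ab b (Coh.structureModule X') n ?_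
    have h := BlowCech.isZero_rpush_idealPow hJ hb 0 n (Nat.one_le_iff_ne_zero.2 hn)
    rw [pow_zero] at h
    exact h.of_iso ((Coh.RpushAb b n).mapIso ((SheafOfModules.toSheaf _).mapIso t)).symm
  obtain ⟨e⟩ := AVMukai.nonempty_rpush_shift b (Coh.structureModule X') (Coh.structureModule X) 0 hzero
    ⟨(Coh.push b).rightDerivedZeroIsoSelf.app _ ≪≫
      (asIso ((Scheme.Modules.pullbackPushforwardAdjunction b).unit.app (Coh.structureModule X)) ≪≫
        (Scheme.Modules.pushforward b).mapIso (PicLoc.pullbackStructureIso b)).symm⟩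
  exact ⟨e ≪≫ (shiftFunctorZero' (DCoh.D X) (-((0 : ℕ) : ℤ)) (by simp)).app _⟩

/-- `b^*` is injective for the blow-up of a nowhere dense regular centre. -/
theorem pullK_injective_blowUp [IsNoetherian X] (hX : KRR.HasEnoughLocFree X)
    (hi : Mor2.IsRegularClosedImmersion i) (hdense : Dense (Set.range i)ᶜ) (hb : BlowUp.IsBlowUp b i.ker) :
    Function.Injective (SGA6Ext.pullK b) := by
  obtain ⟨hqc, hqs⟩ := BlowCech.qc_qs _ (locData_of_regular hi hdense) hb
  haveI := hqc
  haveI := hqs
  haveI : IsProper b := BlowUpExist.isProper_of_isBlowUp hb fun x => by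
    obtain ⟨U, N, a, hxU, -, -, hI⟩ := locData_of_regular hi hdense x
    classical
    exact ⟨U, hxU, ⟨Finset.univ.image a, by rw [Finset.coe_image, Finset.coe_univ, Set.image_univ, hI]⟩⟩
  haveI := DerPush.hasRpush_sch b
  haveI := KFlat.hasLpull b
  exact pullK_injective b (Groth.Agent.S3202.result i hi b hb)
    (fun M hM hM' => hX M ⟨hM, hM'⟩) (nonempty_rpush_unit hi hdense hb)

end Groth.Agent.NormDef
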