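import Groth.Agent.NormDef.LocEqs
import Groth.Agent.NormDef.Exc
import Groth.Agent.NormDef.Core
import Groth.Agent.NormDef.PullInj
import Groth.Agent.Nakai.PullIdeal
import Groth.Agent.RatBlow.Sections
import Groth.Agent.ResDesc.ResLocal
import Groth.Agent.BlowAmp.Ample
import Groth.Agent.K0ResLF.EnoughPn
import Groth.Agent.ExtFund.CanonOpen
import Groth.Agent.RZUnion.Separate

/-!
Adams-Riemann-Roch for a regular closed immersion, by deformation to the normal cone.
-/

set_option autoImplicit false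
set_option linter.style.haveILetI false
set_option linter.unusedSectionVars false
set_option backward.isDefEq.respectTransparency false
set_option backward.isDefEq.respectTransparency.types false
set_option maxHeartbeats 1600000

universe u

open CategoryTheory CategoryTheory.Limits AlgebraicGeometry LambdaRing
open Groth.Agent.SGA6Ext (cls pullK mulK kvbRing kvbLam kvbPos)
open Groth.Agent.K0ResLF (IsPush)
open KRR (projSpaceMap)

attribute [local instance] HasDerivedCategory.standard

noncomputable section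

namespace Groth.Agent.NormDef

attribute [local instance] kvbRing kvbLam

variable {X Y : Scheme.{u}}

theorem hasResolution_of_hasEnough (h : KRR.HasEnoughLocFree X) : PerfAux.HasResolutionProperty X :=
  fun F h1 h2 => h F ⟨h1, h2⟩

/-- The class of a divisor pulls back to the class of the inverse image. -/
theorem pullK_cls_idealMod (g : X ⟶ Y) {I : Y.IdealSheafData} (hI : BlowUp.IsEffCartierIdeal I)
    (hc : BlowUp.IsEffCartierIdeal (I.comap g)) :
    pullK g (cls (ClSub.idealMod I)) = cls (ClSub.idealMod (I.comap g)) := by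
  obtain ⟨e⟩ := Nakai.nonempty_pullback_idealMod g hI hc
  rw [SGA6Ext.pullK_cls g (isFinLocFree_idealMod hI)]
  exact SGA6Ext.cls_iso e (DerPerf.isFinLocFree_pullback g (isFinLocFree_idealMod hI))

theorem cls_idealMod_top : cls (ClSub.idealMod (⊤ : X.IdealSheafData)) = 1 := by
  obtain ⟨e⟩ := RatBlow.nonempty_idealMod_top (X := X)
  exact SGA6Ext.cls_iso e (isFinLocFree_idealMod BlowUpLib.cartier_top)

/-- The push-forward of the unit along a closed immersion with Cartier kernel. -/
theorem push_one_of_cartier_ker [IsNoetherian X] [ConnectedSpace ↥X] [IsNoetherian Y] [ConnectedSpace ↥Y]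
    (hY : KRR.HasEnoughLocFree Y) {g : X ⟶ Y} [IsClosedImmersion g] (hg : BlowUp.IsEffCartierIdeal g.ker)
    {a : SGA6.Kvb X →+ SGA6.Kvb Y} (ha : IsPush g a) : a 1 = 1 - cls (ClSub.idealMod g.ker) := by
  let σ : X ⟶ g.ker.subscheme := g.toImage
  haveI : IsIso σ := inferInstanceAs (IsIso g.toImage)
  haveI : IsLocallyNoetherian g.ker.subscheme := LocallyOfFiniteType.isLocallyNoetherian g.ker.subschemeι
  haveI : CompactSpace ↥g.ker.subscheme := QuasiCompact.compactSpace_of_compactSpace g.ker.subschemeι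
  haveI : IsNoetherian g.ker.subscheme := {}
  haveI : ConnectedSpace ↥g.ker.subscheme :=
    (Scheme.homeoOfIso (asIso σ)).surjective.connectedSpace (Scheme.homeoOfIso (asIso σ)).continuous
  have hfac : σ ≫ g.ker.subschemeι = g := g.toImage_imageι
  have hr := isRegular_cartier hg
  have hσ : Mor2.IsRegularClosedImmersion σ := K0ResLF.isRegularClosedImmersion_of_isIso σ
  have hS : KRR.HasEnoughLocFree g.ker.subscheme := K0ResLF.hasEnoughLocFree_closed g.ker.subschemeι hY
  obtain ⟨b, hb⟩ := push_exists hY hr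
  have hc := K0ResLF.push_comp hS hY hσ hr (K0ResLF.push_iso (asIso σ)) hb (c := a) (hfac.symm ▸ ha)
  rw [hc, AddMonoidHom.comp_apply, pullK_one]
  exact push_one_divisor hY hg hb

/-- Riemann-Roch without denominators for a regular closed immersion. -/
theorem adams_push [IsNoetherian Y] [ConnectedSpace ↥Y] (hY : KRR.HasEnoughLocFree Y) (f : X ⟶ Y)
    (hf : Mor2.IsRegularClosedImmersion f) [ConnectedSpace ↥X] {d : ℕ}
    (hC : FlatMod.IsFinLocFreeOfRank d (Omega.conormal f)) {a : SGA6.Kvb X →+ SGA6.Kvb Y} (ha : IsPush f a)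
    {j : ℕ} (hj : 1 ≤ j) (x : SGA6.Kvb X) :
    adamsOp j (a x) = a (bottN d j (cls (Omega.conormal f)) * adamsOp j x) := by
  haveI := hf.1
  haveI : IsLocallyNoetherian X := LocallyOfFiniteType.isLocallyNoetherian f
  haveI : CompactSpace ↥X := QuasiCompact.compactSpace_of_compactSpace f
  haveI : IsNoetherian X := {}
  set z := bottN d j (cls (Omega.conormal f)) * adamsOp j x with hz
  -- the projective lines
  obtain ⟨hNP, hCP⟩ := K0ResLF.RR.stable_bunPn (n := 1) (Y := Y)
  obtain ⟨hNPX, hCPX⟩ := K0ResLF.RR.stable_bunPn (n := 1) (Y := X)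
  haveI := K0ResLF.flat_pr 1 Y
  have hP := K0ResLF.hasEnoughLocFree_PY hY 1
  let i := projSpaceMap 1 f
  have hi := K0ResLF.isRegularClosedImmersion_projSpaceMap 1 hf
  haveI := hi.1
  haveI := P1Div.isClosedImmersion_sect Y 1
  haveI := P1Div.isClosedImmersion_sect Y 0
  haveI := P1Div.isClosedImmersion_sect X 1
  haveI := P1Div.isClosedImmersion_sect X 0
  let q := KRR.pr 1 X
  let p := KRR.pr 1 Y
  have hpr : ∀ k, P1.sect Y k ≫ p = 𝟙 Y := fun k => pullback.lift_snd _ _ _
  have hqr : ∀ k, P1.sect X k ≫ q = 𝟙 X := fun k => pullback.lift_snd _ _ _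
  have hsectq : ∀ k (w : SGA6.Kvb X), pullK (P1.sect X k) (pullK q w) = w := fun k w => by
    rw [← KSplit.pullK_comp, hqr, KSplit.pullK_id]
  obtain ⟨C, hC'⟩ : ∃ C : (KRR.PY 1 Y).IdealSheafData, C = (centre f).ker := ⟨_, rfl⟩
  let J := (P1.sect Y 1).ker
  let J0 := (P1.sect Y 0).ker
  have hJ : BlowUp.IsEffCartierIdeal J := cartier_sect 1
  have hJ0 : BlowUp.IsEffCartierIdeal J0 := cartier_sect 0
  have hc := isRegular_centre f hf
  haveI := hc.1
  have hcK : (centre f).ker = i.ker ⊔ J := ker_centre f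
  -- the blow-up
  obtain ⟨M, b, hb⟩ := BlowUpExist.exists_isBlowUp (KRR.PY 1 Y) (i.ker ⊔ J)
  obtain ⟨D⟩ := nonempty_deform (locEqs f hf) hJ hb
  have hft : BlowUp.IsFiniteTypeIdeal (i.ker ⊔ J) := RZUnion.isFiniteType_of_isLocallyNoetherian _
  have hloc : ∀ y : ↥(KRR.PY 1 Y), ∃ (U : (KRR.PY 1 Y).affineOpens), y ∈ U.1 ∧ ((i.ker ⊔ J).ideal U).FG := fun y => by
    obtain ⟨U, n, c, hyU, -, -, hJU, hIU⟩ := locEqs f hf y
    classical
    exact ⟨U, hyU, ⟨Finset.univ.image c, by
      rw [Finset.coe_image, Finset.coe_univ, Set.image_univ, Deform.ideal_centre hJU hIU]⟩⟩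
  haveI : IsProper b := BlowUpExist.isProper_of_isBlowUp hb hloc
  haveI : IsLocallyNoetherian M := LocallyOfFiniteType.isLocallyNoetherian b
  haveI : CompactSpace ↥M := QuasiCompact.compactSpace_of_compactSpace b
  haveI : IsNoetherian M := {}
  have hM : KRR.HasEnoughLocFree M := fun G hG => ResDesc.hasResolutionProperty_of_isRelAmple b
    (hasResolution_of_hasEnough hP) _ (⟨inferInstance, fun V => BlowAmp.isAmple_restrict_exceptional hb hft V⟩ :
      RelAmple.IsRelAmple b (ClSub.idealMod ((i.ker ⊔ J).comap b))) G hG.1 hG.2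
  -- the strict transform
  have hF := D.isRegular_F
  haveI := hF.1
  obtain ⟨eC⟩ := ExtFund.nonempty_conormal_pullback (PnReg.isPullback_map (n := 1) f)
  have hCi : FlatMod.IsFinLocFreeOfRank d (Omega.conormal i) :=
    Nagata.isFinLocFreeOfRank_of_iso eC (Nagata.isFinLocFreeOfRank_pullback q hC)
  have hcF := D.conormal_F hCi
  obtain ⟨aF, haF⟩ := push_exists hM hF
  let Dt := adamsOp j (aF (pullK q x)) - aF (pullK q z)
  -- restriction to the strict transform of the fibre
  have hA : Dt * (1 - cls (ClSub.idealMod D.A)) = 0 := by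
    refine (mul_divisor_congr hM D.cart_A (y := 0) ?_).trans (zero_mul _)
    have hd : Disjoint (Set.range D.A.subschemeι) (Set.range D.F) := by
      rw [Set.disjoint_left]
      rintro m hmA ⟨w, rfl⟩
      have hmA' : D.F w ∈ D.A.support := D.A.range_subschemeι.le hmA
      have hmK : D.F w ∈ D.K.support := by
        rw [← D.ker_F, ← SetLike.mem_coe, Scheme.Hom.support_ker]
        exact subset_closure ⟨w, rfl⟩
      obtain ⟨W, hW, hmW, -⟩ := exists_isAffineOpen_mem_and_subset (x := D.F w) (U := (⊤ : M.Opens)) trivial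
      rw [Scheme.IdealSheafData.mem_support_iff_of_mem (U := ⟨W, hW⟩) hmW, Scheme.mem_zeroLocus_iff] at hmA' hmK
      have h1 : (1 : Γ(M, W)) ∈ D.K.ideal ⟨W, hW⟩ ⊔ D.A.ideal ⟨W, hW⟩ := by
        rw [← Pi.sup_apply, ← Scheme.IdealSheafData.ideal_sup, D.sup_eq_top]
        exact Submodule.mem_top
      obtain ⟨k, hk, l, hl, hkl⟩ := Submodule.mem_sup.1 h1
      have hu : IsUnit ((M.presheaf.germ W _ hmW).hom k + (M.presheaf.germ W _ hmW).hom l) := by
        rw [← map_add, hkl, map_one]; exact isUnit_one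
      rcases IsLocalRing.isUnit_or_isUnit_of_isUnit_add hu with h | h
      · exact hmK k hk ((M.mem_basicOpen k _ hmW).2 h)
      · exact hmA' l hl ((M.mem_basicOpen l _ hmW).2 h)
    rw [pullK_sub, pullK_adamsOp, pull_push_disjoint hM hF haF _ hd, pull_push_disjoint hM hF haF _ hd,
      adamsOp_zero hj, sub_zero, map_zero]
  -- restriction to the exceptional divisor
  have hsZ : (P1.sect X 1).ker = J.comap i := (isPullback_sect_comap f 1).symm
  have hw : P1.sect X 1 ≫ i = centre f := (isPullback_sect f 1).w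
  obtain ⟨s, hsq, hs⟩ := exists_excSect D hcK hw hsZ
  have hE : Dt * (1 - cls (ClSub.idealMod D.E)) = 0 := by
    refine (mul_divisor_congr hM D.cart_E (y := 0) ?_).trans (zero_mul _)
    let E := D.E.subscheme
    let π := excπ D hcK
    haveI : IsClosedImmersion (s ≫ D.E.subschemeι) := by rw [hsq.w]; infer_instance
    haveI : IsClosedImmersion s := IsClosedImmersion.of_comp s D.E.subschemeι
    haveI : IsLocallyNoetherian E := LocallyOfFiniteType.isLocallyNoetherian D.E.subschemeι
    haveI : CompactSpace ↥E := QuasiCompact.compactSpace_of_compactSpace D.E.subschemeι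
    haveI : IsNoetherian E := {}
    obtain ⟨B, hB⟩ := exists_bun D hcK hw hsZ hCi
    haveI : ConnectedSpace ↥E := by
      show ConnectedSpace ↥D.E.subscheme
      rw [← hB]
      exact KSplit.connectedSpace_bun B
    have hEe : KRR.HasEnoughLocFree E := K0ResLF.hasEnoughLocFree_closed D.E.subschemeι hM
    have hsr := isRegular_excSect D hcK hw hsZ hsq
    have hcs := conormal_excSect D hcK hw hsZ hCi hsq
    obtain ⟨L, t, hL, ⟨ε⟩, hE', ht⟩ := exists_cosection D hcK hw hsZ hCi hsq
    obtain ⟨as, has⟩ := push_exists hEe hsr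
    have hpush : ∀ w, pullK D.E.subschemeι (aF (pullK q w)) = as w := fun w => by
      rw [push_bc hsq hF hsr hcF hcs hM haF has, hsectq]
    have hCfl := SGA6Ext.finLocFree_of_rank hC
    have hCil := SGA6Ext.finLocFree_of_rank hCi
    have hLl : FlatMod.IsFinLocFree L := ResDesc.isFinLocFree_of_isInvertible hL
    have hcls : cls (Omega.conormal i) = pullK q (cls (Omega.conormal f)) := by
      rw [SGA6Ext.pullK_cls q hCfl]
      exact (SGA6Ext.cls_iso eC (DerPerf.isFinLocFree_pullback q hCfl)).symm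
    have hone : pullK s (cls (Omega.conormal D.E.subschemeι)) = 1 := by
      have hX1 : BlowUp.IsEffCartierIdeal (P1.sect X 1).ker := cartier_sect 1
      have hX0 : BlowUp.IsEffCartierIdeal (P1.sect X 0).ker := cartier_sect 0
      have hEF : D.E.comap D.F = (P1.sect X 1).ker := by
        rw [← Scheme.IdealSheafData.comap_comp, D.F_comp, Deform.comap_centre, hsZ]
      have hdis : (P1.sect X 0).ker.comap (P1.sect X 1) = ⊤ := BlowUpLib.comap_eq_top _ _ fun y hy => by
        rw [← SetLike.mem_coe, Scheme.Hom.support_ker,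
          (P1.sect X 0).isClosedEmbedding.isClosed_range.closure_eq] at hy
        exact Set.disjoint_left.1 disjoint_sect hy ⟨y, rfl⟩
      have h1 : cls (Omega.conormal D.E.subschemeι) = pullK D.E.subschemeι (cls (ClSub.idealMod D.E)) := by
        rw [SGA6Ext.pullK_cls _ (isFinLocFree_idealMod D.cart_E)]
        show cls ((Scheme.Modules.pullback _).obj (ClSub.idealMod D.E.subschemeι.ker)) = _
        rw [Scheme.IdealSheafData.ker_subschemeι]
      rw [h1, ← KSplit.pullK_comp, hsq.w, KSplit.pullK_comp, pullK_cls_idealMod D.F D.cart_E (hEF ▸ hX1), hEF,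
        ← cls_idealMod_sect, pullK_cls_idealMod _ hX0 (hdis ▸ BlowUpLib.cartier_top), hdis, cls_idealMod_top]
    have hL1 : pullK s (cls L) = 1 := by
      have hNl : FlatMod.IsFinLocFree (Omega.conormal D.E.subschemeι) :=
        DerPerf.isFinLocFree_pullback _ (by
          rw [Scheme.IdealSheafData.ker_subschemeι]; exact isFinLocFree_idealMod D.cart_E)
      have h1 : cls (Omega.conormal D.E.subschemeι) * cls L = 1 := by
        rw [mul_eq, SGA6Ext.mulK_cls hNl hLl]
        exact SGA6Ext.cls_iso ε (SGA6Ext.isFinLocFree_tm hNl hLl)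
      have h2 := congrArg (pullK s) h1
      rwa [pullK_mul, hone, one_mul, pullK_one] at h2
    have hcE : pullK s (cls (CohB1.tensorMod
        ((Scheme.Modules.pullback (π ≫ P1.sect X 1)).obj (Omega.conormal i)) L)) = cls (Omega.conormal f) := by
      have hp := DerPerf.isFinLocFree_pullback (π ≫ P1.sect X 1) hCil
      rw [← SGA6Ext.mulK_cls hp hLl, ← mul_eq, pullK_mul, hL1, mul_one, ← SGA6Ext.pullK_cls _ hCil,
        ← KSplit.pullK_comp, ← Category.assoc, hs, Category.id_comp, hcls, hsectq]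
    rw [pullK_sub, pullK_adamsOp, hpush, hpush, adams_push_zeroScheme hEe hs hsr hcs hE' t ht has hj, hcE, ← hz,
      sub_self, map_zero]
  -- linear equivalence of the fibres
  have hJb := BlowUpLib.cartier_comap_blowUp hb hJ
  have hJ0b := BlowUpLib.cartier_comap_blowUp hb hJ0
  have hab : cls (ClSub.idealMod (J0.comap b)) = cls (ClSub.idealMod D.A) * cls (ClSub.idealMod D.E) := by
    rw [← pullK_cls_idealMod b hJ0 hJ0b, cls_idealMod_sect, pullK_cls_idealMod b hJ hJb, D.hA,
      cls_idealMod_mul D.cart_A D.cart_E]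
  have hT : Dt * (1 - cls (ClSub.idealMod (J0.comap b))) = 0 := by
    have h1 : Dt * (1 - cls (ClSub.idealMod D.A) * cls (ClSub.idealMod D.E)) =
        Dt * (1 - cls (ClSub.idealMod D.A)) +
          cls (ClSub.idealMod D.A) * (Dt * (1 - cls (ClSub.idealMod D.E))) := by ring
    rw [hab, h1, hA, hE, mul_zero, add_zero]
  -- the fibre at zero
  have hdis0 : (i.ker ⊔ J).comap (P1.sect Y 0) = ⊤ := BlowUpLib.comap_eq_top _ _ fun y hy => by
    rw [← hcK, ← SetLike.mem_coe, Scheme.Hom.support_ker, (centre f).isClosedEmbedding.isClosed_range.closure_eq] at hy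
    obtain ⟨w, hw'⟩ := hy
    exact Set.disjoint_left.1 disjoint_sect ⟨y, rfl⟩ ⟨f w, hw'⟩
  obtain ⟨j0, hj0, -⟩ := hb.2 Y (P1.sect Y 0) (hdis0 ▸ BlowUpLib.cartier_top)
  have hsq0 : IsPullback f (P1.sect X 0) j0 D.F := by
    have hbig := (isPullback_sect f 0).flip
    have w : f ≫ j0 = P1.sect X 0 ≫ D.F := by
      refine (hb.2 X (f ≫ P1.sect Y 0) ?_).unique (by rw [Category.assoc, hj0]) ?_
      · rw [Scheme.IdealSheafData.comap_comp, hdis0, show (⊤ : Y.IdealSheafData).comap f = ⊤ from
          BlowUpLib.comap_eq_top _ _ fun y h => by simp only [Scheme.IdealSheafData.support_top] at h; exact h]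
        exact BlowUpLib.cartier_top
      · rw [Category.assoc, D.F_comp]
        exact hbig.w.symm
    refine ⟨⟨w⟩, ⟨PullbackCone.IsLimit.mk w (fun σ => hbig.lift σ.fst σ.snd ?_) (fun σ => hbig.lift_fst _ _ _)
      (fun σ => hbig.lift_snd _ _ _) fun σ m h1 h2 => hbig.hom_ext (by rw [h1, hbig.lift_fst]) (by rw [h2, hbig.lift_snd])⟩⟩
    rw [← hj0, ← Category.assoc, σ.condition, Category.assoc, D.F_comp]
  have hpush0 : ∀ w, pullK j0 (aF (pullK q w)) = a w := fun w => by
    rw [push_bc hsq0 hF hf hcF hC hM haF ha, hsectq]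
  let D₀ := adamsOp j (a x) - a z
  have hD₀ : pullK j0 Dt = D₀ := by rw [pullK_sub, pullK_adamsOp, hpush0, hpush0]
  have hL0 : Dt * (1 - cls (ClSub.idealMod (J0.comap b))) =
      pullK b (pullK p D₀) * (1 - cls (ClSub.idealMod (J0.comap b))) := by
    refine mul_divisor_congr hM hJ0b ?_
    let ι := (J0.comap b).subschemeι
    have hle : (P1.sect Y 0).ker ≤ (ι ≫ b).ker := by
      rw [← Scheme.IdealSheafData.map_ker, Scheme.IdealSheafData.ker_subschemeι]
      exact Scheme.IdealSheafData.le_map_comap _ _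
    let g := IsClosedImmersion.lift (P1.sect Y 0) (ι ≫ b) hle
    have hg : g ≫ P1.sect Y 0 = ι ≫ b := IsClosedImmersion.lift_fac _ _ _
    have hgι : g ≫ j0 = ι := by
      refine (hb.2 _ (ι ≫ b) ?_).unique (by rw [Category.assoc, hj0, hg]) rfl
      rw [← hg, Scheme.IdealSheafData.comap_comp, hdis0, show (⊤ : Y.IdealSheafData).comap g = ⊤ from
        BlowUpLib.comap_eq_top _ _ fun y h => by simp only [Scheme.IdealSheafData.support_top] at h; exact h]
      exact BlowUpLib.cartier_top
    show pullK ι Dt = pullK ι (pullK b (pullK p D₀))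
    rw [← hgι, KSplit.pullK_comp, KSplit.pullK_comp, hD₀, ← KSplit.pullK_comp j0, hj0, ← KSplit.pullK_comp _ p, hpr,
      KSplit.pullK_id]
  have hzero : pullK p D₀ * (1 - cls (ClSub.idealMod J0)) = 0 := by
    refine pullK_injective_blowUp hP hc (dense_centre f) (hcK.symm ▸ hb) ?_
    rw [pullK_mul, pullK_sub b 1, pullK_one, pullK_cls_idealMod b hJ0 hJ0b, ← hL0, hT, map_zero]
  obtain ⟨a0, ha0⟩ := push_exists hP (K0ResLF.isRegularClosedImmersion_sect (hpr 0))
  have h0 : a0 D₀ = 0 := by
    have h1 := push_pull hP (K0ResLF.isRegularClosedImmersion_sect (hpr 0)) ha0 (pullK p D₀)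
    rw [← KSplit.pullK_comp, hpr, KSplit.pullK_id, push_one_of_cartier_ker hP hJ0 ha0, mul_comm, hzero] at h1
    exact h1
  have hfin := K0ResLF.push_sect hP (hpr 0) (K0ResLF.isRegularClosedImmersion_sect (hpr 0)) ha0 D₀
  rw [h0, map_zero] at hfin
  exact sub_eq_zero.1 hfin.symm

end Groth.Agent.NormDef
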