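import Groth.Agent.KoszBlow.Ring
import Groth.Agent.KoszulLib.Concat
import Groth.Agent.KoszulLib.Change

/-!
The chart of the deformation to the normal cone which contains the strict transform.
-/

set_option autoImplicit false
set_option linter.style.haveILetI false
set_option linter.unusedSectionVars false
set_option backward.isDefEq.respectTransparency false
set_option backward.isDefEq.respectTransparency.types false

universe u

open MvPolynomial
open Groth.Agent.Wiebe (Acyclic)

noncomputable section

namespace Groth.Agent.NormDef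

variable {A D : Type u} [CommRing A] [CommRing D] {n : ℕ} {a : Fin (n + 1) → A} {ρ : A →+* D}
  {c : Fin (n + 1) → D}

/-- A regular element modulo the other equations. -/
def RegMod (a : Fin (n + 1) → A) : Prop :=
  ∀ x, a 0 * x ∈ Ideal.span (Set.range (Fin.tail a)) → x ∈ Ideal.span (Set.range (Fin.tail a))

/-- The hypotheses on the chart of the first generator. -/
structure ChartData (a : Fin (n + 1) → A) (ρ : A →+* D) (c : Fin (n + 1) → D) : Prop where
  tail : Acyclic (Fin.tail a)
  reg : RegMod a
  eq : ∀ l, c l * ρ (a 0) = ρ (a l)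
  nzd : ρ (a 0) ∈ nonZeroDivisors D
  form : ∀ v : D, ∃ d : ℕ, ∃ x ∈ Ideal.span (Set.range a) ^ d, v * ρ (a 0) ^ d = ρ x
  ker : ∀ x : A, ρ x = 0 → ∃ s : ℕ, a 0 ^ s * x = 0

theorem range_append {α : Type*} {p q : ℕ} (u : Fin p → α) (v : Fin q → α) :
    Set.range (Fin.append u v) = Set.range u ∪ Set.range v := by
  ext x
  constructor
  · rintro ⟨i, rfl⟩
    induction i using Fin.addCases with
    | left j => exact Or.inl ⟨j, (Fin.append_left u v j).symm⟩
    | right j => exact Or.inr ⟨j, (Fin.append_right u v j).symm⟩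
  · rintro (⟨i, rfl⟩ | ⟨i, rfl⟩)
    · exact ⟨Fin.castAdd q i, Fin.append_left u v i⟩
    · exact ⟨Fin.natAdd p i, Fin.append_right u v i⟩

namespace ChartData

variable (H : ChartData a ρ c)

include H

theorem acyclic : Acyclic a := KoszulLib.acyclic_of_tail H.tail H.reg

theorem c_zero : c 0 = 1 :=
  (mul_cancel_right_mem_nonZeroDivisors H.nzd).1 ((H.eq 0).trans (one_mul _).symm)

/-- the presentation -/
theorem surjective_pres : Function.Surjective (eval₂Hom ρ fun i : Fin n => c i.succ) := by
  set e := eval₂Hom ρ fun i : Fin n => c i.succ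
  have key : ∀ (d : ℕ) {x : A}, x ∈ Ideal.span (Set.range a) ^ d → ∃ p, e p * ρ (a 0) ^ d = ρ x := by
    intro d
    induction d with
    | zero => exact fun {x} _ => ⟨C x, by simp [e]⟩
    | succ d ih =>
      intro x hx
      rw [pow_succ] at hx
      induction hx using Submodule.mul_induction_on' with
      | mem_mul_mem y hy z hz =>
        obtain ⟨p, hp⟩ := ih hy
        obtain ⟨w, rfl⟩ := (Submodule.mem_span_range_iff_exists_fun A).1 hz
        refine ⟨p * (C (w 0) + ∑ i : Fin n, C (w i.succ) * X i), ?_⟩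
        have hsum : ρ (∑ l, w l • a l) = (ρ (w 0) + ∑ i : Fin n, ρ (w i.succ) * c i.succ) * ρ (a 0) := by
          rw [map_sum, Fin.sum_univ_succ, add_mul, Finset.sum_mul]
          congr 1
          · rw [smul_eq_mul, map_mul]
          · exact Finset.sum_congr rfl fun i _ => by rw [smul_eq_mul, map_mul, mul_assoc, H.eq]
        rw [map_mul, map_add, map_sum, eval₂Hom_C, map_mul ρ, hsum, ← hp, pow_succ]
        simp only [map_mul, e, eval₂Hom_C, eval₂Hom_X']
        ring
      | add y _ z _ hy hz =>
        obtain ⟨p, hp⟩ := hy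
        obtain ⟨q, hq⟩ := hz
        exact ⟨p + q, by rw [map_add, add_mul, hp, hq, map_add]⟩
  intro v
  obtain ⟨d, x, hx, hv⟩ := H.form v
  obtain ⟨p, hp⟩ := key d hx
  exact ⟨p, (mul_cancel_right_mem_nonZeroDivisors (pow_mem H.nzd d)).1 (hp.trans hv.symm)⟩

theorem ker_pres :
    RingHom.ker (eval₂Hom ρ fun i : Fin n => c i.succ) = Ideal.span (Set.range (KoszBlow.eqn a)) := by
  set e := eval₂Hom ρ fun i : Fin n => c i.succ
  refine le_antisymm (fun p hp => ?_) (Ideal.span_le.2 ?_)
  · let T := Localization.Away (a 0)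
    let T' := Localization.Away (ρ (a 0))
    have hu : IsUnit (((algebraMap D T').comp ρ) (a 0)) := IsLocalization.Away.algebraMap_isUnit (ρ (a 0))
    let χ : T →+* T' := IsLocalization.Away.lift (S := T) (a 0) hu
    have hχ : ∀ x, χ (algebraMap A T x) = algebraMap D T' (ρ x) := fun x =>
      IsLocalization.Away.lift_eq (a 0) hu x
    have hχinj : Function.Injective χ := by
      refine (injective_iff_map_eq_zero χ).2 fun t ht => ?_
      obtain ⟨⟨x, ⟨_, k, rfl⟩⟩, rfl⟩ := IsLocalization.mk'_surjective (Submonoid.powers (a 0)) t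
      have h1 : χ (algebraMap A T x) = 0 := by
        rw [← IsLocalization.mk'_spec T x (⟨a 0 ^ k, k, rfl⟩ : Submonoid.powers (a 0)), map_mul, ht, zero_mul]
      rw [hχ] at h1
      have h2 : ρ x = 0 := IsLocalization.injective T'
        (M := Submonoid.powers (ρ (a 0))) (Submonoid.powers_le.2 H.nzd) (h1.trans (map_zero _).symm)
      obtain ⟨s, hs⟩ := H.ker x h2
      exact (IsLocalization.mk'_eq_zero_iff x _).2 ⟨⟨a 0 ^ s, s, rfl⟩, hs⟩
    have hval : ∀ i, χ (KoszBlow.val a T i) = algebraMap D T' (c i.succ) := fun i => by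
      have h1 := congrArg χ (IsLocalization.mk'_spec T (a i.succ)
        (⟨a 0, Submonoid.mem_powers (a 0)⟩ : Submonoid.powers (a 0)))
      rw [map_mul, hχ, hχ] at h1
      exact hu.mul_right_cancel (h1.trans (by rw [← H.eq i.succ, map_mul]; rfl))
    refine KoszBlow.mem_span_of_aeval a T H.acyclic (hχinj ?_)
    have h := congrArg (algebraMap D T') (RingHom.mem_ker.1 hp)
    rw [map_zero] at h
    rw [map_zero, ← h]
    show (χ.comp (aeval (KoszBlow.val a T)).toRingHom) _ = ((algebraMap D T').comp e) _
    congr 1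
    refine MvPolynomial.ringHom_ext (fun x => ?_) (fun i => ?_)
    · simp [e, hχ]
    · simp [e, hval]
  · rintro _ ⟨i, rfl⟩
    show e (KoszBlow.eqn a i) = 0
    rw [KoszBlow.eqn, map_sub, map_mul, eval₂Hom_C, eval₂Hom_C, eval₂Hom_X', mul_comm, H.eq, sub_self]

/-- The projection of the chart onto the strict transform. -/
theorem exists_proj :
    ∃ ψ : D →+* A ⧸ Ideal.span (Set.range (Fin.tail a)), Function.Surjective ψ ∧
      ψ.comp ρ = Ideal.Quotient.mk _ ∧ RingHom.ker ψ = Ideal.span (Set.range fun i : Fin n => c i.succ) := by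
  set e := eval₂Hom ρ fun i : Fin n => c i.succ with he
  let q := Ideal.Quotient.mk (Ideal.span (Set.range (Fin.tail a)))
  let ev : MvPolynomial (Fin n) A →+* A ⧸ Ideal.span (Set.range (Fin.tail a)) :=
    q.comp (aeval (0 : Fin n → A)).toRingHom
  have hev : RingHom.ker e ≤ RingHom.ker ev := by
    rw [H.ker_pres, Ideal.span_le]
    rintro _ ⟨i, rfl⟩
    have : q (a i.succ) = 0 := Ideal.Quotient.eq_zero_iff_mem.2 (Ideal.subset_span ⟨i, rfl⟩)
    simp [ev, KoszBlow.eqn, this]
  let ψ := RingHom.liftOfSurjective e H.surjective_pres ⟨ev, hev⟩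
  have hψ : ∀ p, ψ (e p) = ev p := RingHom.liftOfRightInverse_comp_apply _ _ _ ⟨ev, hev⟩
  have hC : ∀ x, ψ (ρ x) = q x := fun x => by
    rw [show ρ x = e (C x) from (eval₂Hom_C _ _ _).symm, hψ]
    simp [ev]
  refine ⟨ψ, fun y => ?_, RingHom.ext hC, le_antisymm (fun v hv => ?_) (Ideal.span_le.2 ?_)⟩
  · obtain ⟨x, rfl⟩ := Ideal.Quotient.mk_surjective y
    exact ⟨ρ x, hC x⟩
  · obtain ⟨p, rfl⟩ := H.surjective_pres v
    rw [RingHom.mem_ker, hψ] at hv
    let S := Ideal.span (Set.range fun i : Fin n => c i.succ)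
    have h1 : ∀ p : MvPolynomial (Fin n) A, e p - ρ (aeval (0 : Fin n → A) p) ∈ S := fun p => by
      induction p using MvPolynomial.induction_on with
      | C r => simp [e]
      | add p q hp hq =>
        rw [map_add, map_add, map_add, add_sub_add_comm]
        exact S.add_mem hp hq
      | mul_X p i _ =>
        have : e (p * X i) - ρ (aeval (0 : Fin n → A) (p * X i)) = e p * c i.succ := by simp [e]
        rw [this]
        exact S.mul_mem_left _ (Ideal.subset_span ⟨i, rfl⟩)
    have h2 : ∀ x ∈ Ideal.span (Set.range (Fin.tail a)), ρ x ∈ S := fun x hx => by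
      have : (Ideal.span (Set.range (Fin.tail a))).map ρ ≤ S := by
        rw [Ideal.map_span, Ideal.span_le]
        rintro _ ⟨_, ⟨i, rfl⟩, rfl⟩
        show ρ (a i.succ) ∈ S
        rw [← H.eq]
        exact S.mul_mem_right _ (Ideal.subset_span ⟨i, rfl⟩)
      exact this (Ideal.mem_map_of_mem ρ hx)
    have := S.add_mem (h1 p) (h2 _ (Ideal.Quotient.eq_zero_iff_mem.1 hv))
    exact (congrArg (· ∈ S) (sub_add_cancel (e p) _)).mp this
  · rintro _ ⟨i, rfl⟩
    show ψ (c i.succ) = 0
    have hXi : c i.succ = e (X i) := by simp [e]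
    rw [hXi, hψ]
    simp [ev]

/-- The strict transform is cut out by a Koszul-regular sequence. -/
theorem acyclic_c : Acyclic (fun i : Fin n => c i.succ) := by
  classical
  set e := eval₂Hom ρ fun i : Fin n => c i.succ with he
  have hc : (fun i : Fin n => c i.succ) = e ∘ (X : Fin n → MvPolynomial (Fin n) A) :=
    funext fun i => by simp [e]
  rw [hc, ← KoszulLib.acyclic_append_iff e H.surjective_pres (KoszBlow.acyclic_eqn a H.acyclic) H.ker_pres]
  -- the opposite order
  let g : Fin n → MvPolynomial (Fin n) A := X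
  let ev : MvPolynomial (Fin n) A →+* A := (aeval (0 : Fin n → A)).toRingHom
  have hX : Acyclic g := by
    have := KoszBlow.acyclic_linear (R := A) (b := fun _ : Fin n => (0 : A)) id Function.injective_id
    simpa using this
  have hevs : Function.Surjective ev := fun x => ⟨C x, by simp [ev]⟩
  have hevk : RingHom.ker ev = Ideal.span (Set.range g) := by
    refine le_antisymm (fun p hp => ?_) (Ideal.span_le.2 ?_)
    · have h1 : ∀ p : MvPolynomial (Fin n) A, p - C (ev p) ∈ Ideal.span (Set.range g) := fun p => by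
        induction p using MvPolynomial.induction_on with
        | C r => simp [ev]
        | add p q hp hq =>
          rw [map_add, map_add, add_sub_add_comm]
          exact Ideal.add_mem _ hp hq
        | mul_X p i _ =>
          have : p * X i - C (ev (p * X i)) = p * g i := by simp [ev, g]
          rw [this]
          exact Ideal.mul_mem_left _ _ (Ideal.subset_span ⟨i, rfl⟩)
      have := h1 p
      rwa [RingHom.mem_ker.1 hp, map_zero, sub_zero] at this
    · rintro _ ⟨i, rfl⟩
      simp [ev, g]
  have h2 : Acyclic (Fin.append g (KoszBlow.eqn a)) := by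
    rw [KoszulLib.acyclic_append_iff ev hevs hX hevk]
    have hev : ev ∘ KoszBlow.eqn a = fun i => -Fin.tail a i :=
      funext fun i => by simp [ev, KoszBlow.eqn, Fin.tail]
    rw [hev]
    refine KoszulLib.acyclic_of_length_le H.tail ?_ le_rfl
    refine le_antisymm (Ideal.span_le.2 ?_) (Ideal.span_le.2 ?_)
    · rintro _ ⟨i, rfl⟩
      simpa using neg_mem (Ideal.subset_span ⟨i, rfl⟩ :
        -Fin.tail a i ∈ Ideal.span (Set.range fun i => -Fin.tail a i))
    · rintro _ ⟨i, rfl⟩
      exact neg_mem (Ideal.subset_span ⟨i, rfl⟩ : Fin.tail a i ∈ Ideal.span (Set.range (Fin.tail a)))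
  refine KoszulLib.acyclic_of_length_le h2 ?_ le_rfl
  rw [range_append, range_append, Set.union_comm]

/-- A regular element of the chart stays regular on the strict transform. -/
theorem reg_c (x : D) (hx : ρ (a 0) * x ∈ Ideal.span (Set.range fun i : Fin n => c i.succ)) :
    x ∈ Ideal.span (Set.range fun i : Fin n => c i.succ) := by
  obtain ⟨ψ, hψs, hψρ, hψk⟩ := H.exists_proj
  rw [← hψk, RingHom.mem_ker] at hx ⊢
  obtain ⟨y, hy⟩ := Ideal.Quotient.mk_surjective (ψ x)
  rw [map_mul, ← RingHom.comp_apply ψ ρ, hψρ, ← hy, ← map_mul, Ideal.Quotient.eq_zero_iff_mem] at hx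
  rw [← hy, Ideal.Quotient.eq_zero_iff_mem]
  exact H.reg y hx

/-- The trace of the strict transform on the exceptional divisor. -/
theorem acyclic_trace {D' : Type u} [CommRing D'] (σ : D →+* D') (hσ : Function.Surjective σ)
    (hσk : RingHom.ker σ = Ideal.span {ρ (a 0)}) : Acyclic (fun i : Fin n => σ (c i.succ)) := by
  classical
  let f : Fin 1 → D := fun _ => ρ (a 0)
  have hf : Acyclic f := by
    refine KoszulLib.acyclic_of_tail (KoszulLib.acyclic_nil _) fun z hz => ?_
    rw [show Set.range (Fin.tail f) = ∅ from Set.range_eq_empty _, Ideal.span_empty, Ideal.mem_bot] at hz ⊢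
    exact (mem_nonZeroDivisors_iff.1 H.nzd).1 _ hz
  let f' : Fin (n + 1) → D := Fin.cons (ρ (a 0)) fun i : Fin n => c i.succ
  have hf' : Acyclic f' := by
    refine KoszulLib.acyclic_of_tail ?_ ?_
    · show Acyclic (Fin.tail f')
      rw [Fin.tail_cons]; exact H.acyclic_c
    · rw [Fin.tail_cons]
      exact fun z hz => H.reg_c z hz
  have hspan : RingHom.ker σ = Ideal.span (Set.range f) := by rw [hσk, Set.range_const]
  refine (KoszulLib.acyclic_append_iff σ hσ hf hspan fun i : Fin n => c i.succ).1 ?_
  refine KoszulLib.acyclic_of_length_le hf' ?_ (by omega)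
  rw [range_append, Fin.range_cons, Set.range_const, Set.singleton_union]

end ChartData

end Groth.Agent.NormDef
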