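import Groth.Agent.NormDef.ExcessModels
import Groth.Agent.NormDef.FilModels
import Groth.Agent.KRRLam.Gr
import Groth.Agent.KRRLam.Todd
import Groth.Agent.Lambda.FilTools

/-!
The graded excess intersection formula.
-/

set_option autoImplicit false
set_option linter.style.haveILetI false
set_option linter.unusedSectionVars false
set_option backward.isDefEq.respectTransparency false
set_option backward.isDefEq.respectTransparency.types false
set_option maxHeartbeats 800000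
set_option synthInstance.maxHeartbeats 200000

universe v u

open CategoryTheory CategoryTheory.Limits AlgebraicGeometry LambdaRing
open Groth.Agent.SGA6Ext (cls pullK mulK kvbRing kvbLam kvbPos)
open Groth.Agent.K0ResLF (IsPush)

attribute [local instance] HasDerivedCategory.standard

noncomputable section

namespace Groth.Agent.NormDef

attribute [local instance] kvbRing kvbLam

theorem lam_natOne {K : Type v} [CommRing K] [LambdaOps K] (P : PosStructure K) :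
    ∀ k : ℕ, 2 ≤ k → LambdaOps.lam k (1 : K) = 0 := fun k hk => by
  have h : ((1 : ℕ) : K) ∈ P.pos := P.natCast_mem 1 Nat.one_pos
  rw [Nat.cast_one] at h
  exact P.lam_eq_zero 1 h k (by rw [map_one]; omega)

theorem map_gammaFiltration {K L : Type v} [CommRing K] [LambdaOps K] [CommRing L] [LambdaOps L] {P : PosStructure K}
    {Q : PosStructure L} {f : K →+* L} (hl : ∀ i x, f (LambdaOps.lam i x) = LambdaOps.lam i (f x))
    (ha : ∀ x, Q.aug (f x) = P.aug x) {n : ℕ} {x : K} (hx : x ∈ gammaFiltration P n) :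
    f x ∈ gammaFiltration Q n := by
  rcases eq_or_ne n 0 with rfl | hn
  · exact Lambda.gammaFiltration_zero _
  refine Lambda.gammaFiltration_induction (motive := fun z => f z ∈ gammaFiltration Q n) hn hx
    (fun l h1 h2 => ?_) (by simp) (fun a b ha hb => by rw [map_add]; exact add_mem ha hb)
    fun a ha => by rw [map_neg]; exact neg_mem ha
  have := Lambda.prod_gamma_mem (P := Q) (n := n) (l.map fun p => (p.1, f p.2)) (fun p hp => by
    obtain ⟨q, hq, rfl⟩ := List.mem_map.mp hp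
    rw [ha, h1 q hq]) (by simpa [List.map_map, Function.comp_def] using h2)
  simpa [map_list_prod, List.map_map, Function.comp_def, Lambda.map_gamma hl] using this

theorem grK_scale {K : Type v} [CommRing K] [LambdaOps K] {P : PosStructure K} {n : ℕ} {x : K} {N : ℕ} (hN : 1 ≤ N)
    (hx : (N : K) * x ∈ gammaFiltration P n) :
    KGr.grK P (n : ℤ) ((N : K) * x) = (N : ℚ) • KGr.grK P (n : ℤ) x := by
  have h : ∃ M : ℕ, 1 ≤ M ∧ LaurentPolynomial.C ((M : K) * x) * LaurentPolynomial.T (-(n : ℤ)) ∈ KGr.rees P :=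
    ⟨N, hN, KRRLam.mem_rees hx⟩
  have hM : ((h.choose : ℕ) : K) * x ∈ gammaFiltration P n := by
    have h' := KRRLam.coeff_rees h.choose_spec.2 (-(n : ℤ))
    rwa [← LaurentPolynomial.single_eq_C_mul_T, AddMonoidAlgebra.coeff_single, Finsupp.single_apply, if_pos rfl,
      neg_neg, Int.toNat_natCast] at h'
  have e1 : KGr.grK P (n : ℤ) x = ((1 : ℚ) / (h.choose : ℕ)) • KGr.grK P (n : ℤ) (((h.choose : ℕ) : K) * x) := by
    conv_lhs => rw [KGr.grK, dif_pos h]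
    rw [KRRLam.grK_eq hM, KRRLam.toGr, RingHom.comp_apply]
    erw [TensorProduct.smul_tmul']
    rw [smul_eq_mul, mul_one]
  have e2 := KRRLam.grK_natCast_mul (P := P) h.choose hx
  have e3 := KRRLam.grK_natCast_mul (P := P) N hM
  rw [e1, smul_comm, ← e3, mul_left_comm, e2, smul_smul,
    one_div_mul_cancel (by exact_mod_cast (show (h.choose : ℕ) ≠ 0 by have := h.choose_spec.1; omega)), one_smul]

variable {X Y X₁ Y₁ : Scheme.{u}}

/-- A pull-back on models is a morphism of λ-rings with positive structure. -/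
theorem exists_pull_hom [ConnectedSpace ↥X] [ConnectedSpace ↥Y] {KX : Type v} [CommRing KX] [LambdaOps KX]
    {PX : PosStructure KX} {φX : SGA6.Kvb X →+ KX} (hX : KRR.IsModel X KX PX φX) {KY : Type v} [CommRing KY]
    [LambdaOps KY] {PY : PosStructure KY} {φY : SGA6.Kvb Y →+ KY} (hY : KRR.IsModel Y KY PY φY) {f : X ⟶ Y}
    {g : KY →+ KX} (hg : KRR.IsPull f φY φX g) :
    ∃ G : KY →+* KX, (∀ x, G x = g x) ∧ (∀ i x, G (LambdaOps.lam i x) = LambdaOps.lam i (G x)) ∧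
      ∀ x, PX.aug (G x) = PY.aug x := by
  let e := KSplit.ringOf φY hY.map_one hY.map_mul
  let E : SGA6.Kvb Y ≃+* KY := RingEquiv.ofBijective e hY.bijective
  let G := ((KSplit.ringOf φX hX.map_one hX.map_mul).comp (KSplit.pullRing f)).comp E.symm.toRingHom
  have hG : ∀ y, G (φY y) = φX (pullK f y) := fun y => by
    show φX (pullK f (E.symm (E y))) = _
    rw [E.symm_apply_apply]
  refine ⟨G, fun x => ?_, fun i x => ?_, fun x => ?_⟩ <;> obtain ⟨y, rfl⟩ := hY.bijective.2 x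
  · rw [hG, pull_model hg]
  · rw [← KSplit.map_lamK hY.map_one hY.map_mul hY.map_lam, hG, hG, ← KSplit.map_lamK hX.map_one hX.map_mul hX.map_lam]
    exact congrArg φX (KSplit.pullK_lamK f i y)
  · rw [hG]
    refine DFunLike.congr_fun (SGA6Ext.hom_ext_cls (f := (PX.aug.toAddMonoidHom.comp φX).comp (pullK f))
      (g := PY.aug.toAddMonoidHom.comp φY) fun M hM => ?_) y
    show PX.aug (φX (pullK f (cls M))) = PY.aug (φY (cls M))
    rw [SGA6Ext.pullK_cls f hM]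
    exact (hX.aug_cl _ _ (Nagata.isFinLocFreeOfRank_pullback f (SGA6Ext.isRank hM))).trans
      (hY.aug_cl _ _ (SGA6Ext.isRank hM)).symm

theorem excess_graded {L : Y.Modules} [IsNoetherian Y] [ConnectedSpace ↥Y] (hL : CohB1.IsAmple L) [IsNoetherian Y₁]
    [ConnectedSpace ↥Y₁] (hY₁e : KRR.HasEnoughLocFree Y₁) {f : X ⟶ Y} (hf : Mor2.IsRegularClosedImmersion f)
    [ConnectedSpace ↥X] {d : ℕ} (hC : FlatMod.IsFinLocFreeOfRank d (Omega.conormal f))
    {φ : Y₁ ⟶ Y} {f₁ : X₁ ⟶ Y₁} {ψ : X₁ ⟶ X} (hsq : IsPullback f₁ ψ φ f) (hf₁ : Mor2.IsRegularClosedImmersion f₁)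
    [ConnectedSpace ↥X₁] {d₁ : ℕ} (hC₁ : FlatMod.IsFinLocFreeOfRank d₁ (Omega.conormal f₁))
    {KX : Type v} [CommRing KX] [LambdaOps KX] {PX : PosStructure KX} {φX : SGA6.Kvb X →+ KX}
    (hKX : KRR.IsModel X KX PX φX) {KY : Type v} [CommRing KY] [LambdaOps KY] {PY : PosStructure KY}
    {φY : SGA6.Kvb Y →+ KY} (hKY : KRR.IsModel Y KY PY φY) {KX₁ : Type v} [CommRing KX₁] [LambdaOps KX₁]
    {PX₁ : PosStructure KX₁} {φX₁ : SGA6.Kvb X₁ →+ KX₁} (hKX₁ : KRR.IsModel X₁ KX₁ PX₁ φX₁)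
    {KY₁ : Type v} [CommRing KY₁] [LambdaOps KY₁] {PY₁ : PosStructure KY₁}
    {φY₁ : SGA6.Kvb Y₁ →+ KY₁} (hKY₁ : KRR.IsModel Y₁ KY₁ PY₁ φY₁)
    {gφ : KY →+ KY₁} (hgφ : KRR.IsPull φ φY φY₁ gφ) {gψ : KX →+ KX₁} (hgψ : KRR.IsPull ψ φX φX₁ gψ)
    {gf : KX →+ KY} (hgf : KRR.IsPushCl f φX φY gf) {gf₁ : KX₁ →+ KY₁} (hgf₁ : KRR.IsPushCl f₁ φX₁ φY₁ gf₁)
    {φG : KGr.Gr PY →+ KGr.Gr PY₁} (hφG : KGr.IsGrPull PY PY₁ gφ φG)
    {ψG : KGr.Gr PX →+ KGr.Gr PX₁} (hψG : KGr.IsGrPull PX PX₁ gψ ψG)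
    {fG : KGr.Gr PX →+ KGr.Gr PY} (hfG : KGr.IsGrPush PX PY gf d fG)
    {f₁G : KGr.Gr PX₁ →+ KGr.Gr PY₁} (hf₁G : KGr.IsGrPush PX₁ PY₁ gf₁ d₁ f₁G)
    (k : ℕ) (x : KX) (hx : x ∈ gammaFiltration PX k) :
    f₁G ((-1 : KGr.Gr PX₁) ^ (d - d₁) *
        KGr.chern PX₁ (d - d₁) (gψ (φX (KRR.cl X (Omega.conormal f))) - φX₁ (KRR.cl X₁ (Omega.conormal f₁))) *
        ψG (KGr.grK PX (k : ℤ) x)) = φG (fG (KGr.grK PX (k : ℤ) x)) := by
  have hYe : KRR.HasEnoughLocFree Y := fun F hF => ResDesc.hasResolutionProperty_of_isAmple L hL F hF.1 hF.2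
  obtain ⟨hd, haug, hex⟩ := excess_model hYe hY₁e hf hC hsq hf₁ hC₁ hKX hKY hKX₁ hKY₁ hgφ hgψ hgf hgf₁ x
  obtain ⟨m, K, hdm, hK, hKe⟩ := exists_excess hf hC hsq hf₁ hC₁
  obtain ⟨Gψ, hGψ, hGψl, hGψa⟩ := exists_pull_hom hKX₁ hKX hgψ
  obtain ⟨Gφ, hGφ, hGφl, hGφa⟩ := exists_pull_hom hKY₁ hKY hgφ
  set e := gψ (φX (KRR.cl X (Omega.conormal f))) - φX₁ (KRR.cl X₁ (Omega.conormal f₁)) with he
  set m' := d - d₁ with hm'
  have hm : m = m' := by omega
  have hlam : ∀ i, m' < i → LambdaOps.lam i e = 0 := fun i hi => by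
    rw [show e = φX₁ (cls K) by rw [hKe, he, pull_model hgψ]; exact (map_sub φX₁ _ _).symm,
      ← KSplit.map_lamK hKX₁.map_one hKX₁.map_mul hKX₁.map_lam, SGA6Ext.lamK_eq_zero (hm ▸ hK) hi, map_zero]
  have hw : gψ x ∈ gammaFiltration PX₁ k := by rw [← hGψ]; exact map_gammaFiltration hGψl hGψa hx
  have hg : gamma m' (e - (m' : KX₁)) ∈ gammaFiltration PX₁ m' := KRRLam.gamma_rank_mem PX₁ haug m'
  have halt : KRR.lamAlt PX₁ e = (-1 : KX₁) ^ m' * gamma m' (e - (m' : KX₁)) := by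
    rw [KRR.lamAlt, haug, Int.toNat_natCast]
    exact Lambda.lamAlt_eq (lam_natOne PX₁) hlam
  have hsign : (-1 : KGr.Gr PX₁) ^ m' * KGr.chern PX₁ m' e = KGr.grK PX₁ (m' : ℤ) (KRR.lamAlt PX₁ e) := by
    rw [KGr.chern, haug, Int.cast_natCast, halt,
      show ((-1 : KX₁) ^ m') = (((-1 : ℤ) ^ m' : ℤ) : KX₁) by push_cast; rfl]
    have := KRRLam.grK_mul (P := PX₁) (a := 0) (b := m') (x := (((-1 : ℤ) ^ m' : ℤ) : KX₁))
      (Lambda.gammaFiltration_zero _) hg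
    rw [Nat.zero_add, KRRLam.grK_intCast] at this
    rw [← this, Int.cast_pow, Int.cast_neg, Int.cast_one, map_pow, map_neg, map_one]
  have hlf : KRR.lamAlt PX₁ e ∈ gammaFiltration PX₁ m' := by rw [halt]; exact Lambda.gammaFiltration_mul_mem _ hg
  have hmem : KRR.lamAlt PX₁ e * gψ x ∈ gammaFiltration PX₁ (m' + k) := Lambda.gammaFiltration_mul hlf hw
  obtain ⟨N, hN, hNf⟩ := fil_pushCl hL f hf hC hKX hKY hgf k hx
  rw [hψG k x hx, hsign, KRRLam.grK_mul hlf hw, hf₁G _ _ hmem, hfG k x hx,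
    show ((m' + k : ℕ) : ℤ) + (d₁ : ℤ) = ((k + d : ℕ) : ℤ) by omega,
    show (k : ℤ) + (d : ℤ) = ((k + d : ℕ) : ℤ) by omega, ← hex]
  have hNφ : (N : KY₁) * gφ (gf x) ∈ gammaFiltration PY₁ (k + d) := by
    rw [← hGφ, ← map_natCast Gφ, ← map_mul]
    exact map_gammaFiltration hGφl hGφa hNf
  have h2 := congrArg φG (grK_scale hN hNf)
  rw [hφG _ _ hNf, ← hGφ, map_mul, map_natCast, hGφ, grK_scale hN hNφ, Nat.cast_smul_eq_nsmul, Nat.cast_smul_eq_nsmul,
    map_nsmul, ← Nat.cast_smul_eq_nsmul ℚ, ← Nat.cast_smul_eq_nsmul ℚ] at h2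
  have h3 := congrArg (fun z => ((N : ℚ)⁻¹) • z) h2
  have hN0 : (N : ℚ) ≠ 0 := by exact_mod_cast (by omega : N ≠ 0)
  simp only [smul_smul, inv_mul_cancel₀ hN0, one_smul] at h3
  exact h3

end Groth.Agent.NormDef
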