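import Groth.Agent.NormDef.Adams
import Groth.Agent.KSplit.Model

/-!
The formulas on models of the λ-rings of bundles.
-/

set_option autoImplicit false
set_option linter.style.haveILetI false
set_option linter.unusedSectionVars false
set_option backward.isDefEq.respectTransparency false
set_option backward.isDefEq.respectTransparency.types false

universe v u

open CategoryTheory CategoryTheory.Limits AlgebraicGeometry LambdaRing
open Groth.Agent.SGA6Ext (cls pullK mulK kvbRing kvbLam kvbPos)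
open Groth.Agent.K0ResLF (IsPush)

attribute [local instance] HasDerivedCategory.standard

noncomputable section

namespace Groth.Agent.NormDef

attribute [local instance] kvbRing kvbLam

variable {X Y : Scheme.{u}} {KX : Type v} [CommRing KX] [LambdaOps KX] {PX : PosStructure KX}
  {φX : SGA6.Kvb X →+ KX}

theorem model_adamsOp (hX : KRR.IsModel X KX PX φX) (j : ℕ) (x : SGA6.Kvb X) :
    φX (adamsOp j x) = adamsOp j (φX x) := by
  show KSplit.ringOf φX hX.map_one hX.map_mul (adamsOp j x) = _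
  rw [Lambda.adamsOp_eq, Lambda.adamsOp_eq, Lambda.map_N]
  exact congrArg (fun e => Lambda.N e j) (funext fun i => KSplit.map_lamK hX.map_one hX.map_mul hX.map_lam i x)

theorem model_bottN (hX : KRR.IsModel X KX PX φX) (d j : ℕ) (x : SGA6.Kvb X) :
    φX (bottN d j x) = bottN d j (φX x) := by
  show KSplit.ringOf φX hX.map_one hX.map_mul (bottN d j x) = _
  rw [bottN, Lambda.map_aeval_int]
  exact congrArg (fun w => MvPolynomial.aeval w (KRR.bottPoly j d))
    (funext fun i => KSplit.map_lamK hX.map_one hX.map_mul hX.map_lam (i.1 + 1) x)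

/-- A push-forward on models comes from the canonical one. -/
theorem exists_push_model {KY : Type v} [CommRing KY] [LambdaOps KY] {PY : PosStructure KY}
    {φY : SGA6.Kvb Y →+ KY} (hY : KRR.IsModel Y KY PY φY) {f : X ⟶ Y} {h : KX →+ KY}
    (hh : KRR.IsPushCl f φX φY h) : ∃ a, IsPush f a ∧ ∀ x, φY (a x) = h (φX x) := by
  let e := AddEquiv.ofBijective φY hY.bijective
  refine ⟨(e.symm.toAddMonoidHom.comp h).comp φX, fun F hF n L π hL => hY.bijective.1 ?_,
    fun x => e.apply_symm_apply _⟩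
  refine (e.apply_symm_apply _).trans ((hh F hF n L π hL).trans ?_)
  rw [map_sum]
  exact Finset.sum_congr rfl fun k _ => (map_zsmul φY _ _).symm

theorem hasEnough_of_qProj {S : Scheme.{u}} [IsAffine S] [IsNoetherian Y] [ConnectedSpace ↥Y] {qY : Y ⟶ S}
    (h : KRR.IsQProjOver qY) : KRR.HasEnoughLocFree Y := by
  obtain ⟨L, hL⟩ := K0ResLF.RR.exists_isAmple_of_isQProjOver h
  exact fun F hF => ResDesc.hasResolutionProperty_of_isAmple L hL F hF.1 hF.2

/-- Adams-Riemann-Roch on models. -/
theorem adams_pushCl_of_enough [IsNoetherian Y] [ConnectedSpace ↥Y]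
    (hYe : KRR.HasEnoughLocFree Y) (f : X ⟶ Y) (hf : Mor2.IsRegularClosedImmersion f) [ConnectedSpace ↥X] {d : ℕ}
    (hC : FlatMod.IsFinLocFreeOfRank d (Omega.conormal f)) (hX : KRR.IsModel X KX PX φX)
    {KY : Type v} [CommRing KY] [LambdaOps KY] {PY : PosStructure KY} {φY : SGA6.Kvb Y →+ KY}
    (hY : KRR.IsModel Y KY PY φY) {h : KX →+ KY} (hh : KRR.IsPushCl f φX φY h) {j : ℕ} (hj : 1 ≤ j) (x : KX) :
    LambdaRing.adams PY j (h x) =
      h (KRR.bott PX j (φX (KRR.cl X (Omega.conormal f))) * LambdaRing.adams PX j x) := by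
  obtain ⟨a, ha, hah⟩ := exists_push_model hY hh
  obtain ⟨y, rfl⟩ := hX.bijective.2 x
  rw [Lambda.adams_eq PY hj, Lambda.adams_eq PX hj, bott_eq_bottN PX j (hX.aug_cl d _ hC), ← hah,
    ← model_adamsOp hY, adams_push hYe f hf hC ha hj, hah]
  refine congrArg h ?_
  show KSplit.ringOf φX hX.map_one hX.map_mul (bottN d j (cls (Omega.conormal f)) * adamsOp j y) = _
  rw [map_mul]
  exact congrArg₂ (· * ·) (model_bottN hX d j _) (model_adamsOp hX j y)

theorem adams_pushCl {S : Scheme.{u}} [IsAffine S] [IsNoetherian Y] [ConnectedSpace ↥Y] {qY : Y ⟶ S}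
    (hqY : KRR.IsQProjOver qY) (f : X ⟶ Y) (hf : Mor2.IsRegularClosedImmersion f) [ConnectedSpace ↥X] {d : ℕ}
    (hC : FlatMod.IsFinLocFreeOfRank d (Omega.conormal f)) (hX : KRR.IsModel X KX PX φX)
    {KY : Type v} [CommRing KY] [LambdaOps KY] {PY : PosStructure KY} {φY : SGA6.Kvb Y →+ KY}
    (hY : KRR.IsModel Y KY PY φY) {h : KX →+ KY} (hh : KRR.IsPushCl f φX φY h) {j : ℕ} (hj : 1 ≤ j) (x : KX) :
    LambdaRing.adams PY j (h x) =
      h (KRR.bott PX j (φX (KRR.cl X (Omega.conormal f))) * LambdaRing.adams PX j x) :=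
  adams_pushCl_of_enough (hasEnough_of_qProj hqY) f hf hC hX hY hh hj x

end Groth.Agent.NormDef
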