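import Groth.Agent.NormDef.Excess
import Groth.Agent.NormDef.Models

/-!
The excess intersection formula on models.
-/

set_option autoImplicit false
set_option linter.style.haveILetI false
set_option linter.unusedSectionVars false
set_option backward.isDefEq.respectTransparency false
set_option backward.isDefEq.respectTransparency.types false
set_option maxHeartbeats 800000

universe v u

open CategoryTheory CategoryTheory.Limits AlgebraicGeometry LambdaRing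
open Groth.Agent.SGA6Ext (cls pullK mulK kvbRing kvbLam kvbPos)
open Groth.Agent.K0ResLF (IsPush)

attribute [local instance] HasDerivedCategory.standard

noncomputable section

namespace Groth.Agent.NormDef

attribute [local instance] kvbRing kvbLam

variable {X Y X₁ Y₁ : Scheme.{u}}

/-- A pull-back on models comes from the canonical one. -/
theorem pull_model {KX : Type v} [CommRing KX] {φX : SGA6.Kvb X →+ KX} {KY : Type v} [CommRing KY]
    {φY : SGA6.Kvb Y →+ KY} {f : X ⟶ Y} {g : KY →+ KX} (hg : KRR.IsPull f φY φX g) (y : SGA6.Kvb Y) :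
    g (φY y) = φX (pullK f y) := by
  refine DFunLike.congr_fun (SGA6Ext.hom_ext_cls (f := g.comp φY) (g := φX.comp (pullK f)) fun M hM => ?_) y
  show g (φY (cls M)) = φX (pullK f (cls M))
  rw [SGA6Ext.pullK_cls f hM]
  exact hg M hM

theorem excess_model [IsNoetherian Y] [ConnectedSpace ↥Y] (hYe : KRR.HasEnoughLocFree Y) [IsNoetherian Y₁]
    [ConnectedSpace ↥Y₁] (hY₁e : KRR.HasEnoughLocFree Y₁) {f : X ⟶ Y} (hf : Mor2.IsRegularClosedImmersion f)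
    [ConnectedSpace ↥X] {d : ℕ} (hC : FlatMod.IsFinLocFreeOfRank d (Omega.conormal f))
    {φ : Y₁ ⟶ Y} {f₁ : X₁ ⟶ Y₁} {ψ : X₁ ⟶ X} (hsq : IsPullback f₁ ψ φ f) (hf₁ : Mor2.IsRegularClosedImmersion f₁)
    [ConnectedSpace ↥X₁] {d₁ : ℕ} (hC₁ : FlatMod.IsFinLocFreeOfRank d₁ (Omega.conormal f₁))
    {KX : Type v} [CommRing KX] [LambdaOps KX] {PX : PosStructure KX} {φX : SGA6.Kvb X →+ KX}
    (hKX : KRR.IsModel X KX PX φX) {KY : Type v} [CommRing KY] [LambdaOps KY] {PY : PosStructure KY}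
    {φY : SGA6.Kvb Y →+ KY} (hKY : KRR.IsModel Y KY PY φY) {KX₁ : Type v} [CommRing KX₁] [LambdaOps KX₁]
    {PX₁ : PosStructure KX₁} {φX₁ : SGA6.Kvb X₁ →+ KX₁} (hKX₁ : KRR.IsModel X₁ KX₁ PX₁ φX₁)
    {KY₁ : Type v} [CommRing KY₁] [LambdaOps KY₁] {PY₁ : PosStructure KY₁}
    {φY₁ : SGA6.Kvb Y₁ →+ KY₁} (hKY₁ : KRR.IsModel Y₁ KY₁ PY₁ φY₁)
    {gφ : KY →+ KY₁} (hgφ : KRR.IsPull φ φY φY₁ gφ) {gψ : KX →+ KX₁} (hgψ : KRR.IsPull ψ φX φX₁ gψ)
    {gf : KX →+ KY} (hgf : KRR.IsPushCl f φX φY gf) {gf₁ : KX₁ →+ KY₁} (hgf₁ : KRR.IsPushCl f₁ φX₁ φY₁ gf₁)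
    (x : KX) :
    d₁ ≤ d ∧ PX₁.aug (gψ (φX (KRR.cl X (Omega.conormal f))) - φX₁ (KRR.cl X₁ (Omega.conormal f₁))) = ((d - d₁ : ℕ) : ℤ) ∧
    gφ (gf x) = gf₁ (KRR.lamAlt PX₁ (gψ (φX (KRR.cl X (Omega.conormal f))) - φX₁ (KRR.cl X₁ (Omega.conormal f₁))) *
      gψ x) := by
  obtain ⟨af, haf, hafg⟩ := exists_push_model hKY hgf
  obtain ⟨af₁, haf₁, haf₁g⟩ := exists_push_model hKY₁ hgf₁
  obtain ⟨y, rfl⟩ := hKX.bijective.2 x
  obtain ⟨hd, hex⟩ := excess hYe hY₁e hf hC hsq hf₁ hC₁ haf haf₁ y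
  have hCl := SGA6Ext.finLocFree_of_rank hC
  have haug : PX₁.aug (gψ (φX (KRR.cl X (Omega.conormal f))) - φX₁ (KRR.cl X₁ (Omega.conormal f₁))) =
      ((d - d₁ : ℕ) : ℤ) := by
    rw [hgψ _ hCl, map_sub, hKX₁.aug_cl d₁ _ hC₁, hKX₁.aug_cl d _ (Nagata.isFinLocFreeOfRank_pullback ψ hC),
      Nat.cast_sub hd]
  refine ⟨hd, haug, ?_⟩
  rw [KRR.lamAlt, haug, Int.toNat_natCast, ← hafg, pull_model hgφ, hex, haf₁g, pull_model hgψ, pull_model hgψ]
  refine congrArg gf₁ ?_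
  show KSplit.ringOf φX₁ hKX₁.map_one hKX₁.map_mul
    (lamAltN (d - d₁) (pullK ψ (cls (Omega.conormal f)) - cls (Omega.conormal f₁)) * pullK ψ y) = _
  rw [map_mul, lamAltN, map_sum]
  refine congrArg₂ (· * ·) (Finset.sum_congr rfl fun i _ => ?_) rfl
  rw [map_mul, map_pow, map_neg, map_one]
  refine congrArg _ ((KSplit.map_lamK hKX₁.map_one hKX₁.map_mul hKX₁.map_lam i _).trans ?_)
  exact congrArg _ (map_sub φX₁ _ _)

end Groth.Agent.NormDef
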