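import Groth.Agent.K0ResLF.Canon
import Groth.Agent.K0ResLF.PullRes
import Groth.Agent.KSplit.Gamma
import Groth.Agent.S3750
import Groth.Agent.S8914
import Groth.Agent.CurveRR.Curve
import Groth.Agent.Nakai.CartierMul
import Groth.Agent.Lambda.Split
import Groth.Agent.K0Filt.Push

/-!
Push-forwards on the canonical Grothendieck groups: base change, supports, Cartier divisors.
-/

set_option autoImplicit false
set_option linter.style.haveILetI false
set_option linter.unusedSectionVars false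
set_option backward.isDefEq.respectTransparency false
set_option backward.isDefEq.respectTransparency.types false
set_option maxHeartbeats 1000000

universe u

open CategoryTheory CategoryTheory.Limits AlgebraicGeometry
open Groth.Agent.SGA6Ext (cls pullK mulK kvbRing kvbLam)
open Groth.Agent.K0ResLF (IsPush)

attribute [local instance] HasDerivedCategory.standard

noncomputable section

namespace Groth.Agent.NormDef

attribute [local instance] kvbRing kvbLam

variable {X Y P M Z : Scheme.{u}}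

theorem mul_eq (x y : SGA6.Kvb X) : x * y = mulK X x y := rfl

theorem pullK_mul (f : X ⟶ Y) (x y : SGA6.Kvb Y) : pullK f (x * y) = pullK f x * pullK f y :=
  KSplit.pullK_mulK f x y

theorem pullK_one (f : X ⟶ Y) : pullK f (1 : SGA6.Kvb Y) = 1 := KSplit.pullK_one f

theorem one_eq : (1 : SGA6.Kvb X) = cls (Coh.structureModule X) := rfl

theorem pullK_adamsOp (f : X ⟶ Y) (k : ℕ) (x : SGA6.Kvb Y) :
    pullK f (LambdaRing.adamsOp k x) = LambdaRing.adamsOp k (pullK f x) :=
  Lambda.map_adamsOp (f := KSplit.pullRing f) (fun i a => KSplit.pullK_lamK f i a) k x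

/-- Push-forwards exist. -/
theorem push_exists [IsNoetherian Y] (hY : KRR.HasEnoughLocFree Y) {i : X ⟶ Y}
    (hi : Mor2.IsRegularClosedImmersion i) : ∃ a, IsPush i a := by
  haveI := hi.1
  haveI := GrothSS.preservesFiniteColimits_push i
  let j := SGA6.mapSub (𝟭 Y.Modules) (K0ResLF.LF Y) (K0ResLF.ResP Y) (K0ResLF.res_lf hY)
  have hj : Function.Bijective j := K0ResLF.bijective_res hY (K0ResLF.res_lf hY)
  have hpush : ∀ F : X.Modules, FlatMod.IsFinLocFree F →
      K0ResLF.ResP Y ((Scheme.Modules.pushforward i).obj F) := fun F hF => K0ResLF.hasLFRes_push hY hi hF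
  let a := (AddEquiv.ofBijective j hj).symm.toAddMonoidHom.comp
    (SGA6.mapSub (Scheme.Modules.pushforward i) (K0ResLF.LF X) (K0ResLF.ResP Y) hpush)
  refine ⟨a, fun F hF n L π hL => ?_⟩
  haveI := hL.quasiIso
  refine hj.1 ?_
  show j ((AddEquiv.ofBijective j hj).symm _) = _
  refine ((AddEquiv.ofBijective j hj).apply_symm_apply _).trans ?_
  rw [K0Filt.mapSub_cl _ _ _ _ hF,
    K0ResLF.cl_eq_sum (K0ResLF.ResP Y) (K0ResLF.hypRes hY (K0ResLF.res_lf hY)).ker₁ (hpush F hF) n L π hL.isZero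
      (fun k => K0ResLF.res_lf hY _ (hL.finLocFree k)), map_sum]
  refine Finset.sum_congr rfl fun k _ => ?_
  rw [map_zsmul]
  exact congrArg _ (K0Filt.mapSub_cl (𝟭 Y.Modules) _ _ _ (hL.finLocFree k)).symm

/-- The projection formula. -/
theorem push_mul [IsNoetherian Y] (hY : KRR.HasEnoughLocFree Y) {i : X ⟶ Y} (hi : Mor2.IsRegularClosedImmersion i)
    {a : SGA6.Kvb X →+ SGA6.Kvb Y} (ha : IsPush i a) (x : SGA6.Kvb X) (y : SGA6.Kvb Y) :
    a (x * pullK i y) = a x * y :=
  K0ResLF.pushCl_mul_pull hY (φX := AddMonoidHom.id _) Function.bijective_id (φY := AddMonoidHom.id _)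
    Function.bijective_id (fun _ _ hE hF => SGA6Ext.mulK_cls hE hF) (fun _ _ hE hF => SGA6Ext.mulK_cls hE hF) hi
    (g := pullK i) (fun _ hE => SGA6Ext.pullK_cls i hE) ha x y

/-- A class extended from the ambient scheme. -/
theorem push_pull [IsNoetherian Y] (hY : KRR.HasEnoughLocFree Y) {i : X ⟶ Y} (hi : Mor2.IsRegularClosedImmersion i)
    {a : SGA6.Kvb X →+ SGA6.Kvb Y} (ha : IsPush i a) (y : SGA6.Kvb Y) : a (pullK i y) = a 1 * y := by
  rw [← push_mul hY hi ha, one_mul]

/-- Base change when the codimension does not drop. -/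
theorem push_bc {F : P ⟶ M} {φ : Y ⟶ M} {f : X ⟶ Y} {ψ : X ⟶ P}
    (hsq : IsPullback f ψ φ F) (hF : Mor2.IsRegularClosedImmersion F) (hf : Mor2.IsRegularClosedImmersion f) {d : ℕ}
    (hcF : FlatMod.IsFinLocFreeOfRank d (Omega.conormal F)) (hcf : FlatMod.IsFinLocFreeOfRank d (Omega.conormal f))
    [IsLocallyNoetherian Y] [IsNoetherian M] (hM : KRR.HasEnoughLocFree M)
    {aF : SGA6.Kvb P →+ SGA6.Kvb M} (haF : IsPush F aF) {af : SGA6.Kvb X →+ SGA6.Kvb Y} (haf : IsPush f af)
    (p : SGA6.Kvb P) : pullK φ (aF p) = af (pullK ψ p) := by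
  suffices h : (pullK φ).comp aF = af.comp (pullK ψ) from DFunLike.congr_fun h p
  refine SGA6Ext.hom_ext_cls fun E hE => ?_
  obtain ⟨n, L, π, hL⟩ := (K0ResLF.hasLFRes_push hM hF hE).2
  obtain ⟨π', hL'⟩ := K0ResLF.exists_pull_res hsq hF hf hcF hcf hE hL
  show pullK φ (aF (cls E)) = af (pullK ψ (cls E))
  rw [SGA6Ext.pullK_cls ψ hE, haF E hE n L π hL,
    haf _ (DerPerf.isFinLocFree_pullback ψ hE) n _ π' hL', map_sum]
  exact Finset.sum_congr rfl fun k _ => by
    rw [map_zsmul, SGA6Ext.pullK_cls φ (hL.finLocFree k)]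
    rfl

/-- A direct image vanishes away from the subscheme. -/
theorem pull_push_disjoint [IsNoetherian M] (hM : KRR.HasEnoughLocFree M) {F : P ⟶ M}
    (hF : Mor2.IsRegularClosedImmersion F) {a : SGA6.Kvb P →+ SGA6.Kvb M} (ha : IsPush F a)
    (h : Z ⟶ M) (hd : Disjoint (Set.range h) (Set.range F)) (p : SGA6.Kvb P) : pullK h (a p) = 0 := by
  classical
  haveI := hF.1
  let U : M.Opens := ⟨(Set.range F)ᶜ, F.isClosedEmbedding.isClosed_range.isOpen_compl⟩
  have hU : Set.range h ⊆ Set.range U.ι := by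
    rw [Scheme.Opens.range_ι]
    exact fun x hx => Set.disjoint_left.1 hd hx
  let h' : Z ⟶ (U : Scheme.{u}) := IsOpenImmersion.lift U.ι h hU
  have hfac : h' ≫ U.ι = h := IsOpenImmersion.lift_fac _ _ _
  refine DFunLike.congr_fun (SGA6Ext.hom_ext_cls (f := (pullK h).comp a) (g := 0) fun Q hQ => ?_) p
  obtain ⟨n, L, π, hL⟩ := (K0ResLF.hasLFRes_push hM hF hQ).2
  haveI := hL.quasiIso
  let R := Scheme.Modules.restrictFunctor U.ι
  have hzero : IsZero (R.obj ((Scheme.Modules.pushforward F).obj Q)) := by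
    refine (K0Dev.isZero_iff_stalks _).2 fun v => (ClSubLib.notMem_support_iff_isZero _ v).1 fun hv => ?_
    have h0 : U.ι v ∉ CohB1.support ((Scheme.Modules.pushforward F).obj Q) := fun hs =>
      hs (KFlat.subsingleton_stalk_push F Q v.2)
    exact h0 ((ClSubLib.support_pullback_subset U.ι _) (by
      rwa [← ClSubLib.support_congr ((Scheme.Modules.restrictFunctorIsoPullback U.ι).app _)]))
  let π' := (R.mapHomologicalComplex _).map π ≫
    ((HomologicalComplex.singleMapHomologicalComplex R (ComplexShape.down ℕ) 0).app _).hom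
  have hLU : ∀ i, FlatMod.IsFinLocFree (R.obj (L.X i)) := fun i =>
    DQCoh.isFinLocFree_restrict U.ι (hL.finLocFree i)
  have hsum := K0ResLF.cl_eq_sum (K0ResLF.LF (U : Scheme.{u})) (fun _ hS => K0ResLF.isFinLocFree_left hS)
    (DQCoh.isFinLocFree_of_isZero hzero) n _ π' (fun i hi => R.map_isZero (hL.isZero i hi)) hLU
  have h0 : KZero.clSub (K0ResLF.LF (U : Scheme.{u})) (R.obj ((Scheme.Modules.pushforward F).obj Q)) = 0 :=
    K0Dev.cl_zero hzero
  rw [h0] at hsum
  show pullK h (a (cls Q)) = 0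
  rw [ha Q hQ n L π hL, map_sum]
  refine Eq.trans ?_ ((congrArg (fun s => pullK h' s) hsum).symm.trans (map_zero _))
  simp only [map_sum]
  refine Finset.sum_congr rfl fun i _ => ?_
  rw [map_zsmul, map_zsmul]
  refine congrArg (fun a => (-1 : ℤ) ^ i • a) ?_
  rw [SGA6Ext.pullK_cls h (hL.finLocFree i)]
  refine Eq.trans ?_ (SGA6Ext.pullK_cls h' (hLU i)).symm
  exact SGA6Ext.cls_iso ((Scheme.Modules.pullbackCongr hfac.symm).app _ ≪≫
    ((Scheme.Modules.pullbackComp h' U.ι).app (L.X i)).symm ≪≫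
    (Scheme.Modules.pullback h').mapIso ((Scheme.Modules.restrictFunctorIsoPullback U.ι).app _).symm)
    (DerPerf.isFinLocFree_pullback h (hL.finLocFree i))

/-! ### effective Cartier divisors -/

/-- The subscheme of an effective Cartier ideal is regularly immersed. -/
theorem isRegular_cartier {I : M.IdealSheafData} (hI : BlowUp.IsEffCartierIdeal I) :
    Mor2.IsRegularClosedImmersion I.subschemeι := by
  refine RegMor2.isRegularClosedImmersion_of fun z => ?_
  obtain ⟨U, hU, g, hg, hIg⟩ := hI (I.subschemeι z)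
  refine ⟨U, hU, IsZariskiLocalAtTarget.restrict (P := @IsClosedImmersion) inferInstance U.1, [g],
    (RingTheory.Sequence.isWeaklyRegular_singleton_iff _ g).2 (IsSMulRegular.of_right_eq_zero_of_smul fun x hx => ?_),
    ?_⟩
  · rw [smul_eq_mul, mul_comm] at hx
    exact (mem_nonZeroDivisors_iff.1 hg).2 x hx
  · rw [← Scheme.Hom.ker_apply I.subschemeι U, Scheme.IdealSheafData.ker_subschemeι, hIg, Ideal.ofList_singleton]

theorem isFinLocFree_idealMod {I : M.IdealSheafData} (hI : BlowUp.IsEffCartierIdeal I) :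
    FlatMod.IsFinLocFree (ClSub.idealMod I) :=
  SGA6Ext.finLocFree_of_rank (CurveRR.isFinLocFreeOfRank_one ((Groth.Agent.S8914.result I).2 hI))

/-- The class of an effective Cartier divisor. -/
theorem push_one_divisor [IsNoetherian M] (hM : KRR.HasEnoughLocFree M) {I : M.IdealSheafData}
    (hI : BlowUp.IsEffCartierIdeal I) {a : SGA6.Kvb I.subscheme →+ SGA6.Kvb M} (ha : IsPush I.subschemeι a) :
    a 1 = 1 - cls (ClSub.idealMod I) := by
  have hL := isFinLocFree_idealMod hI
  have hO := SGA6Ext.finLocFree_unit M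
  have hr := isRegular_cartier hI
  have hS := CurveRR.ideal_shortExact I
  let P' := K0ResLF.ResP M
  have hq : P' (ClSub.quotMod I) := K0ResLF.hasLFRes_push hM hr (SGA6Ext.finLocFree_unit I.subscheme)
  refine (K0ResLF.bijective_res hM (K0ResLF.res_lf hM)).1 ?_
  rw [map_sub, one_eq, one_eq, K0Filt.mapSub_cl _ _ _ _ hO, K0Filt.mapSub_cl _ _ _ _ hL]
  refine Eq.trans ?_ (eq_sub_of_add_eq' (K0Res.clSub_add P' hS (K0ResLF.res_lf hM _ hL) (K0ResLF.res_lf hM _ hO)
    hq).symm)
  obtain ⟨n, L, π, hLr⟩ := hq.2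
  haveI := hLr.quasiIso
  rw [ha (Coh.structureModule _) (SGA6Ext.finLocFree_unit _) n L π hLr, map_sum,
    K0ResLF.cl_eq_sum P' (K0ResLF.hypRes hM (K0ResLF.res_lf hM)).ker₁ hq n L π hLr.isZero
      (fun k => K0ResLF.res_lf hM _ (hLr.finLocFree k))]
  exact Finset.sum_congr rfl fun k _ => by
    rw [map_zsmul]
    exact congrArg _ (K0Filt.mapSub_cl (𝟭 M.Modules) _ _ _ (hLr.finLocFree k))

/-- Classes with the same restriction to a divisor agree after multiplication by its class. -/
theorem mul_divisor_congr [IsNoetherian M] (hM : KRR.HasEnoughLocFree M) {I : M.IdealSheafData}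
    (hI : BlowUp.IsEffCartierIdeal I) {x y : SGA6.Kvb M}
    (h : pullK I.subschemeι x = pullK I.subschemeι y) :
    x * (1 - cls (ClSub.idealMod I)) = y * (1 - cls (ClSub.idealMod I)) := by
  obtain ⟨a, ha⟩ := push_exists hM (isRegular_cartier hI)
  rw [mul_comm x, mul_comm y, ← push_one_divisor hM hI ha, ← push_pull hM (isRegular_cartier hI) ha,
    ← push_pull hM (isRegular_cartier hI) ha, h]

/-- The class of a product of divisors. -/
theorem cls_idealMod_mul {I J : M.IdealSheafData} (hI : BlowUp.IsEffCartierIdeal I) (hJ : BlowUp.IsEffCartierIdeal J) :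
    cls (ClSub.idealMod (I * J)) = cls (ClSub.idealMod I) * cls (ClSub.idealMod J) := by
  obtain ⟨e⟩ := Nakai.nonempty_idealMod_mul hI hJ
  rw [mul_eq, SGA6Ext.mulK_cls (isFinLocFree_idealMod hI) (isFinLocFree_idealMod hJ)]
  exact (SGA6Ext.cls_iso e (SGA6Ext.isFinLocFree_tm (isFinLocFree_idealMod hI) (isFinLocFree_idealMod hJ))).symm

end Groth.Agent.NormDef
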