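import Groth.Agent.NormDef.LineBase
import Groth.Agent.ExtFund.DetSES
import Groth.Agent.QC.IdealMod
import Groth.Agent.PBundle.FrameTools
import Groth.Agent.CMFlat.RegImm
import Groth.Agent.NormDef.KTools
import Groth.Agent.P1Div.Push

/-!
The two sections of the projective line are linearly equivalent effective Cartier divisors.
-/

set_option autoImplicit false
set_option linter.style.haveILetI false
set_option backward.isDefEq.respectTransparency false
set_option backward.isDefEq.respectTransparency.types false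
set_option maxHeartbeats 800000

universe u

open CategoryTheory CategoryTheory.Limits AlgebraicGeometry TopologicalSpace
open ProjMor (chart pz ev)
open Groth.Agent.P1Div (dom)
open Groth.Agent.QC (res resO app_res)

noncomputable section

namespace Groth.Agent.NormDef

variable {X Y : Scheme.{u}}

/-- A generator of the ideal module on an affine open. -/
theorem exists_gen_idealMod_affine (I : X.IdealSheafData) (V : X.affineOpens) (a : Γ(X, V.1))
    (ha : a ∈ nonZeroDivisors Γ(X, V.1)) (hI : I.ideal V = Ideal.span {a}) :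
    ∃ s : Γ(ClSub.idealMod I, V.1), OmegaSh.idealSect I V.1 s = a ∧ TMul.IsGen s := by
  obtain ⟨s, hs⟩ := (QC.mem_range_idealModι_affine I V a).2 (by rw [hI]; exact Ideal.mem_span_singleton_self a)
  replace hs : OmegaSh.idealSect I V.1 s = a := hs
  refine ⟨s, hs, BlowExcBundle.isGen_of_isFrame (PBundle.isFrame_of_bijective (QC.isQCoh_idealMod I) V.2 ?_)⟩
  have key : ∀ c : Fin 1 → Γ(X, V.1), OmegaSh.idealSect I V.1 (∑ i, c i • s) = c 0 * a := fun c => by
    rw [Fin.sum_univ_one, Conormal.idealSect_smul, hs]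
  refine ⟨fun c d h => funext fun i => ?_, fun m => ?_⟩
  · have h1 := (key c).symm.trans ((congrArg (OmegaSh.idealSect I V.1) h).trans (key d))
    rw [Fin.eq_zero i]
    exact (mul_cancel_right_mem_nonZeroDivisors ha).1 h1
  · have hm : OmegaSh.idealSect I V.1 m ∈ I.ideal V := (QC.mem_range_idealModι_affine I V _).1 ⟨m, rfl⟩
    rw [hI, Ideal.mem_span_singleton'] at hm
    obtain ⟨c, hc⟩ := hm
    exact ⟨fun _ => c, Conormal.idealSect_injective I V.1 ((key _).trans hc)⟩

/-- A point of a section is off the other chart. -/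
theorem sect_not_mem_dom_succ (i : Fin (1 + 1)) (x : X) : P1.sect X i x ∉ dom X (i + 1) := fun h => by
  have hu : IsUnit (P1Div.tStk i _ (P1Div.mem_dom_sect i x)) := by
    rcases P1Div.eq_or_eq_succ 0 i with rfl | rfl
    · exact IsUnit.of_mul_eq_one _ (P1Div.tStk_mul _ (P1Div.mem_dom_sect 0 x) h)
    · exact IsUnit.of_mul_eq_one _ ((mul_comm _ _).trans (P1Div.tStk_mul _ h (P1Div.mem_dom_sect 1 x)))
  exact P1Div.not_isUnit_tStk_sect i x hu

theorem disjoint_sect : Disjoint (Set.range (P1.sect X 0)) (Set.range (P1.sect X 1)) :=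
  Set.disjoint_left.2 fun _ ⟨x, hx⟩ ⟨y, hy⟩ => P1Div.sect_ne x y (hx.trans hy.symm)

/-- Away from the image, a kernel is the unit ideal. -/
theorem map_germ_eq_top {P Z : Scheme.{u}} (g : Z ⟶ P) [IsClosedImmersion g] (V : P.affineOpens) {p : P}
    (hp : p ∈ V.1) (h : p ∉ Set.range g) :
    (g.ker.ideal V).map (P.presheaf.germ V.1 p hp).hom = ⊤ := by
  have hs : p ∉ g.ker.support := by
    rw [← SetLike.mem_coe, Scheme.Hom.support_ker]
    simpa [g.isClosedEmbedding.isClosed_range.closure_eq] using h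
  rw [Scheme.IdealSheafData.mem_support_iff_of_mem (U := V) hp, Scheme.mem_zeroLocus_iff] at hs
  simp only [not_forall, not_not] at hs
  obtain ⟨f, hf, hpf⟩ := hs
  exact Ideal.eq_top_of_isUnit_mem _ (Ideal.mem_map_of_mem _ hf) ((P.mem_basicOpen f p hp).1 hpf)

/-- The ideal of a section on a chart around it. -/
theorem ker_ideal_dom (i : Fin (1 + 1)) (V : (CohB1.ProjSpaceOver 1 X).affineOpens) (h : V.1 ≤ dom X i) :
    (P1.sect X i).ker.ideal V = Ideal.span {coordRes i h} := by
  refine V.2.ideal_ext_iff.2 fun p hp => ?_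
  rw [Ideal.map_span, Set.image_singleton]
  erw [germ_coordRes i h hp]
  by_cases hr : p ∈ Set.range (P1.sect X i)
  · obtain ⟨x, rfl⟩ := hr
    rw [Scheme.Hom.ker_apply, ← CMFlat.ker_stalkMap_eq (P1.sect X i) x V hp]
    exact P1Div.ker_sect i x (h hp)
  · rw [map_germ_eq_top _ V hp hr]
    exact (Ideal.span_singleton_eq_top.2 (P1Div.isUnit_tStk_of_not_range i (h hp) hr)).symm

/-- The ideal of a section on the other chart. -/
theorem ker_ideal_dom_succ (i : Fin (1 + 1)) (V : (CohB1.ProjSpaceOver 1 X).affineOpens) (h : V.1 ≤ dom X (i + 1)) :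
    (P1.sect X i).ker.ideal V = ⊤ := by
  refine V.2.ideal_ext_iff.2 fun p hp => ?_
  rw [Ideal.map_top]
  exact map_germ_eq_top _ V hp fun ⟨x, hx⟩ => sect_not_mem_dom_succ i x (hx ▸ h hp)

/-- The coordinate is a non zero divisor near every point of its chart. -/
theorem exists_nzd_coord (i : Fin (1 + 1)) (p : ↥(CohB1.ProjSpaceOver 1 X)) (hp : p ∈ dom X i) :
    ∃ W : (CohB1.ProjSpaceOver 1 X).affineOpens, p ∈ W.1 ∧
      ∃ h : W.1 ≤ dom X i, coordRes i h ∈ nonZeroDivisors Γ(CohB1.ProjSpaceOver 1 X, W.1) := by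
  obtain ⟨U, hU, hpU, -⟩ := exists_isAffineOpen_mem_and_subset (x := CohB1.ProjSpaceOver.toBase 1 X p) (U := (⊤ : X.Opens)) trivial
  obtain ⟨w, hw⟩ := hU.range_fromSpec.ge hpU
  obtain ⟨q, hq, -⟩ := Scheme.exists_preimage_of_isPullback (REqP1.toP1_isPullback hU.fromSpec) p w hw.symm
  subst hq
  exact exists_nzd_coord_affine _ i hU.fromSpec q hp

/-- The sections are effective Cartier divisors. -/
theorem cartier_sect (i : Fin (1 + 1)) : BlowUp.IsEffCartierIdeal (P1.sect X i).ker := fun p => by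
  rcases P1Div.dom_cover p with h | h
  all_goals rcases P1Div.eq_or_eq_succ 0 i with rfl | rfl
  all_goals first
    | obtain ⟨W, hpW, hle, hnzd⟩ := exists_nzd_coord _ p h
      exact ⟨W, hpW, _, hnzd, ker_ideal_dom _ W hle⟩
    | obtain ⟨W, hW, hpW, hle⟩ := exists_isAffineOpen_mem_and_subset h
      exact ⟨⟨W, hW⟩, hpW, 1, one_mem _, by
        rw [Ideal.span_singleton_one]; exact ker_ideal_dom_succ _ ⟨W, hW⟩ hle⟩

theorem coord_mul {V : (CohB1.ProjSpaceOver 1 X).Opens} (h0 : V ≤ dom X 0) (h1 : V ≤ dom X 1) :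
    coordRes 0 h0 * coordRes 1 h1 = 1 := by
  refine TopCat.Presheaf.section_ext (CohB1.ProjSpaceOver 1 X).sheaf V _ _ fun p hp => ?_
  show (CohB1.ProjSpaceOver 1 X).presheaf.germ V p hp _ = (CohB1.ProjSpaceOver 1 X).presheaf.germ V p hp 1
  rw [map_mul, map_one, germ_coordRes, germ_coordRes]
  exact P1Div.tStk_mul p (h0 hp) (h1 hp)

theorem resO_coordRes (i : Fin (1 + 1)) {V W : (CohB1.ProjSpaceOver 1 X).Opens} (h : W ≤ V) (hV : V ≤ dom X i) :
    resO _ h (coordRes i hV) = coordRes i (h.trans hV) := by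
  show ((CohB1.ProjSpaceOver 1 X).presheaf.map (homOfLE h).op) (((CohB1.ProjSpaceOver 1 X).presheaf.map (homOfLE hV).op) _) = _
  rw [← CommRingCat.comp_apply, ← Functor.map_comp]
  rfl

/-- The sections are linearly equivalent. -/
theorem nonempty_idealMod_sect (X : Scheme.{u}) :
    Nonempty (ClSub.idealMod (P1.sect X 0).ker ≅ ClSub.idealMod (P1.sect X 1).ker) := by
  classical
  have hloc : ∀ p : ↥(CohB1.ProjSpaceOver 1 X), ∃ (V : (CohB1.ProjSpaceOver 1 X).Opens) (_ : p ∈ V)
      (a : Γ(ClSub.idealMod (P1.sect X 0).ker, V)) (b : Γ(ClSub.idealMod (P1.sect X 1).ker, V)),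
      TMul.IsGen a ∧ TMul.IsGen b ∧
      ((∃ h : V ≤ dom X 0, OmegaSh.idealSect _ V a = coordRes 0 h ∧ OmegaSh.idealSect _ V b = 1) ∨
        (∃ h : V ≤ dom X 1, OmegaSh.idealSect _ V a = 1 ∧ OmegaSh.idealSect _ V b = coordRes 1 h)) := fun p => by
    rcases P1Div.dom_cover p with h | h
    · obtain ⟨W, hpW, hle, hnzd⟩ := exists_nzd_coord 0 p h
      obtain ⟨a, ha, hga⟩ := exists_gen_idealMod_affine _ W _ hnzd (ker_ideal_dom 0 W hle)
      obtain ⟨b, hb, hgb⟩ := exists_gen_idealMod_affine (P1.sect X 1).ker W 1 (one_mem _)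
        (by rw [Ideal.span_singleton_one]; exact ker_ideal_dom_succ 1 W hle)
      exact ⟨W.1, hpW, a, b, hga, hgb, Or.inl ⟨hle, ha, hb⟩⟩
    · obtain ⟨W, hpW, hle, hnzd⟩ := exists_nzd_coord 1 p h
      obtain ⟨b, hb, hgb⟩ := exists_gen_idealMod_affine _ W _ hnzd (ker_ideal_dom 1 W hle)
      obtain ⟨a, ha, hga⟩ := exists_gen_idealMod_affine (P1.sect X 0).ker W 1 (one_mem _)
        (by rw [Ideal.span_singleton_one]; exact ker_ideal_dom_succ 0 W hle)
      exact ⟨W.1, hpW, a, b, hga, hgb, Or.inr ⟨hle, ha, hb⟩⟩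
  choose U hU a b ha hb hab using hloc
  refine ExtFund.nonempty_iso_of_gens U (fun p => ⟨p, hU p⟩) a b ha hb fun p q V hp hq r hr => ?_
  refine Conormal.idealSect_injective _ _ ?_
  have hr' := congrArg (OmegaSh.idealSect (P1.sect X 0).ker V) hr
  rw [Conormal.idealSect_smul, Conormal.idealSect_res, Conormal.idealSect_res] at hr'
  rw [Conormal.idealSect_smul, Conormal.idealSect_res, Conormal.idealSect_res]
  rcases hab p with ⟨h0, ea, eb⟩ | ⟨h1, ea, eb⟩ <;> rcases hab q with ⟨k0, fa, fb⟩ | ⟨k1, fa, fb⟩ <;>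
    simp only [ea, eb, fa, fb, map_one, resO_coordRes, mul_one] at hr' ⊢
  · have : r = 1 := (ha p V hp).1 (show r • res _ hp (a p) = (1 : (CohB1.ProjSpaceOver 1 X).presheaf.obj (.op V)) • res _ hp (a p) by
      rw [one_smul, ← hr]
      refine Conormal.idealSect_injective _ _ ?_
      simp only [Conormal.idealSect_res, ea, fa, resO_coordRes])
    rw [this]
  · rw [show r = r * (coordRes 0 (hp.trans h0) * coordRes 1 (hq.trans k1)) by rw [coord_mul, mul_one],
      ← mul_assoc, ← hr', one_mul]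
  · rw [← hr', coord_mul]
  · rw [← hr', one_mul]

theorem cls_idealMod_sect (X : Scheme.{u}) :
    SGA6Ext.cls (ClSub.idealMod (P1.sect X 0).ker) = SGA6Ext.cls (ClSub.idealMod (P1.sect X 1).ker) := by
  obtain ⟨e⟩ := nonempty_idealMod_sect X
  exact SGA6Ext.cls_iso e (SGA6Ext.finLocFree_of_rank (CurveRR.isFinLocFreeOfRank_one
    ((Groth.Agent.S8914.result _).2 (cartier_sect 0))))

end Groth.Agent.NormDef
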