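import Groth.Agent.P1Div.Chart
import Groth.Agent.REqP1.Link
import Groth.Agent.Conormal.Basic
import Groth.Agent.BlowExcBundle.Frame

/-!
The two sections of the projective line are effective Cartier divisors.
-/

set_option autoImplicit false
set_option linter.style.haveILetI false
set_option backward.isDefEq.respectTransparency false
set_option backward.isDefEq.respectTransparency.types false
set_option maxHeartbeats 800000

universe u

open CategoryTheory CategoryTheory.Limits AlgebraicGeometry TopologicalSpace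
open ProjMor (chart pz ev)
open Groth.Agent.P1Div (dom)

noncomputable section

namespace Groth.Agent.NormDef

variable (X : Scheme.{u})

/-- The coordinate on a chart. -/
def coord (i : Fin (1 + 1)) : Γ(CohB1.ProjSpaceOver 1 X, dom X i) :=
  (pz 1 X).app (chart 1 i) (P1Div.u i)

variable {X}

/-- The coordinate restricted to a smaller open. -/
def coordRes (i : Fin (1 + 1)) {V : (CohB1.ProjSpaceOver 1 X).Opens} (h : V ≤ dom X i) :
    Γ(CohB1.ProjSpaceOver 1 X, V) :=
  ((CohB1.ProjSpaceOver 1 X).presheaf.map (homOfLE h).op).hom (coord X i)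

theorem germ_coordRes (i : Fin (1 + 1)) {V : (CohB1.ProjSpaceOver 1 X).Opens} (h : V ≤ dom X i) {p} (hp : p ∈ V) :
    (CohB1.ProjSpaceOver 1 X).presheaf.germ V p hp (coordRes i h) = P1Div.tStk i p (h hp) :=
  TopCat.Presheaf.germ_res_apply (CohB1.ProjSpaceOver 1 X).presheaf (homOfLE h) p hp _

/-- The ring map of a chart over `A` sends the coordinate to the variable. -/
theorem chartMap_ratio (i : Fin (1 + 1)) (B : Type u) [CommRing B] (b : B) :
    ((P1.chartMap i B b).comp
      (Proj.basicOpenIsoAway P1.grading.{u} (P1.T i) (P1.X_mem i) one_pos).inv.hom) (P1Div.u i) = b := by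
  let φ := MvPolynomial.eval₂Hom ((Int.castRingHom B).comp (ULift.ringEquiv.{0, u}).toRingHom)
    (Function.update (fun _ => b) i 1)
  have hφ : φ (P1.T i) = 1 := by simp [φ]
  show ProjMor.chartHom (P1.X_mem i) φ hφ
    (GrT.deh P1.grading.{u} (P1.X_mem i) (MvPolynomial.X (i + 1))) = b
  rw [ProjMor.chartHom_deh]
  simp [φ]

theorem mem_nzd_of_injective {R S : Type u} [CommRing R] [CommRing S] (e : R →+* S) (he : Function.Injective e)
    (r : R) (h : e r ∈ nonZeroDivisors S) : r ∈ nonZeroDivisors R := by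
  refine mem_nonZeroDivisors_iff_right.2 fun x hx => he ?_
  rw [map_zero]
  exact (mem_nonZeroDivisors_iff_right.1 h) _ (by rw [← map_mul, hx, map_zero])

theorem mem_nzd_of_ringEquiv {R S : Type u} [CommRing R] [CommRing S] (e : R ≃+* S) (r : R)
    (h : e r ∈ nonZeroDivisors S) : r ∈ nonZeroDivisors R :=
  mem_nzd_of_injective e.toRingHom e.injective r h

theorem polyTensor_X (R A : Type u) [CommRing R] [CommRing A] [Algebra R A] :
    (polyEquivTensor R A).symm.toRingEquiv
      ((Algebra.TensorProduct.comm R (Polynomial R) A).toRingEquiv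
        ((Algebra.TensorProduct.includeLeft (S := R) : Polynomial R →ₐ[R] TensorProduct R (Polynomial R) A).toRingHom
          Polynomial.X)) = Polynomial.X := by
  show (polyEquivTensor R A).symm (Algebra.TensorProduct.comm R (Polynomial R) A
    (Algebra.TensorProduct.includeLeft (S := R) Polynomial.X)) = _
  rw [AlgEquiv.symm_apply_eq, Algebra.TensorProduct.includeLeft_apply, Algebra.TensorProduct.comm_tmul,
    polyEquivTensor_apply, Polynomial.eval₂_X]

theorem chartOverEquiv_X (A : Type u) [CommRing A] [Algebra P1.R0.{u} A] :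
    REqP1.chartOverEquiv A
      ((Algebra.TensorProduct.includeLeft (S := P1.R0.{u}) :
        Polynomial P1.R0.{u} →ₐ[P1.R0.{u}] REqP1.ChartOver A).toRingHom Polynomial.X) = Polynomial.X := by
  unfold REqP1.chartOverEquiv
  rw [RingEquiv.trans_apply]
  exact polyTensor_X P1.R0.{u} A

theorem exists_nzd_coord_affine (A : Type u) [CommRing A] (i : Fin (1 + 1))
    {Y : Scheme.{u}} (g : Spec (CommRingCat.of A) ⟶ Y) [IsOpenImmersion g]
    (p : ↥(CohB1.ProjSpaceOver 1 (Spec (CommRingCat.of A)))) (hp : P1.toP1 g p ∈ dom Y i) :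
    ∃ W : (CohB1.ProjSpaceOver 1 Y).affineOpens, P1.toP1 g p ∈ W.1 ∧
      ∃ h : W.1 ≤ dom Y i, coordRes i h ∈ nonZeroDivisors Γ(CohB1.ProjSpaceOver 1 Y, W.1) := by
  letI : Algebra P1.R0.{u} A := ((Int.castRingHom A).comp ULift.ringEquiv.toRingHom).toAlgebra
  let B := REqP1.ChartOver A
  haveI : IsOpenImmersion (P1.toP1 g) :=
    MorphismProperty.of_isPullback (REqP1.toP1_isPullback g).flip inferInstance
  let j : Spec (CommRingCat.of B) ⟶ CohB1.ProjSpaceOver 1 Y := REqP1.chartOver A i ≫ P1.toP1 g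
  haveI : IsOpenImmersion j := inferInstanceAs (IsOpenImmersion (_ ≫ _))
  let inc : Polynomial P1.R0.{u} →+* B :=
    (Algebra.TensorProduct.includeLeft (S := P1.R0.{u}) : Polynomial P1.R0.{u} →ₐ[P1.R0.{u}] B).toRingHom
  let m : Γ(CohB1.ProjSpace 1 (ULift.{u} ℤ), chart.{u} 1 i) ⟶ CommRingCat.of B :=
    CommRingCat.ofHom ((inc.comp (REqP1.chartEquiv i).toRingHom).comp
      (Proj.basicOpenIsoAway P1.grading.{u} (P1.T i) (P1.X_mem i) one_pos).inv.hom)
  have hpz : j ≫ pz 1 Y = Spec.map m ≫ (ProjMor.isAffineOpen_chart.{u} 1 i).fromSpec := by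
    show (_ ≫ P1.toP1 g) ≫ pullback.fst _ _ = _
    rw [Category.assoc, REqP1.toP1_fst, REqP1.chartOver_fst, P1Div.awayι_eq, ← Spec.map_comp_assoc]
    rfl
  have htop : (⊤ : (Spec (CommRingCat.of B)).Opens) ≤ (j ≫ pz 1 Y) ⁻¹ᵁ chart 1 i := fun z _ => by
    show (j ≫ pz 1 Y) z ∈ chart 1 i
    rw [hpz, Scheme.Hom.comp_apply]
    exact (ProjMor.isAffineOpen_chart.{u} 1 i).range_fromSpec.le ⟨_, rfl⟩
  have hW : j.opensRange ≤ dom Y i := by
    rintro _ ⟨z, rfl⟩
    exact htop (Set.mem_univ z)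
  have hmu :
      (Scheme.ΓSpecIso (CommRingCat.of B)).hom.hom
        (ev (j ≫ pz 1 Y) (chart 1 i) ⊤ htop (P1Div.u i)) = inc Polynomial.X := by
    have H : ∀ (r : Spec (CommRingCat.of B) ⟶ CohB1.ProjSpace 1 (ULift.{u} ℤ))
        (_ : r = Spec.map m ≫ (ProjMor.isAffineOpen_chart.{u} 1 i).fromSpec) (h : ⊤ ≤ r ⁻¹ᵁ chart 1 i),
        r.appLE (chart 1 i) ⊤ h = m ≫ (Scheme.ΓSpecIso _).inv := by
      rintro r rfl h
      rw [Scheme.ΓSpecIso_inv_naturality m]
      simp [Scheme.Hom.appLE, IsAffineOpen.fromSpec_app_self, Category.assoc]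
      rfl
    show (Scheme.ΓSpecIso (CommRingCat.of B)).hom ((j ≫ pz 1 Y).appLE (chart 1 i) ⊤ htop (P1Div.u i)) = _
    rw [H _ hpz]
    refine ((Scheme.ΓSpecIso (CommRingCat.of B)).commRingCatIsoToRingEquiv.apply_symm_apply _).trans ?_
    exact congrArg inc (chartMap_ratio i _ _)
  have hX : inc Polynomial.X ∈ nonZeroDivisors B := by
    exact mem_nzd_of_ringEquiv (REqP1.chartOverEquiv A) (inc Polynomial.X)
      (by rw [show REqP1.chartOverEquiv A (inc Polynomial.X) = Polynomial.X from chartOverEquiv_X A]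
          exact Polynomial.monic_X.mem_nonZeroDivisors)
  refine ⟨⟨j.opensRange, isAffineOpen_opensRange j⟩, ?_, hW, ?_⟩
  · have hmem : pz 1 _ p ∈ Set.range (Proj.awayι P1.grading.{u} (P1.T i) (P1.X_mem i) one_pos) := by
      rw [← Scheme.Hom.coe_opensRange, Proj.opensRange_awayι]
      have h : pz 1 Y (P1.toP1 g p) ∈ chart 1 i := hp
      rw [← Scheme.Hom.comp_apply, show P1.toP1 g ≫ pz 1 Y = pz 1 _ from REqP1.toP1_fst g] at h
      exact h
    obtain ⟨w, hw⟩ := hmem
    obtain ⟨z, hz, -⟩ := Scheme.exists_preimage_of_isPullback (REqP1.chartOver_isPullback A i) p w hw.symm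
    exact ⟨z, by rw [Scheme.Hom.comp_apply, hz]⟩
  · have hsect : (⊤ : (Spec (CommRingCat.of B)).Opens) ≤ j ⁻¹ᵁ j.opensRange := fun z _ => ⟨z, rfl⟩
    let θ := (j.appLE j.opensRange ⊤ hsect ≫ (Scheme.ΓSpecIso (CommRingCat.of B)).hom).hom
    have hθ : Function.Bijective θ := by
      haveI : IsIso (j.appLE j.opensRange ⊤ hsect) := by
        have e : ∀ (W : (CohB1.ProjSpaceOver 1 Y).Opens) (_ : W = j ''ᵁ ⊤) (h : ⊤ ≤ j ⁻¹ᵁ W),
            IsIso (j.appLE W ⊤ h) := by
          rintro W rfl h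
          rw [← Scheme.Hom.appIso_hom']
          infer_instance
        exact e _ j.image_top_eq_opensRange.symm _
      exact ConcreteCategory.bijective_of_isIso
        (j.appLE j.opensRange ⊤ hsect ≫ (Scheme.ΓSpecIso (CommRingCat.of B)).hom)
    have hval : θ (coordRes i hW) = inc Polynomial.X := by
      show (Scheme.ΓSpecIso (CommRingCat.of B)).hom.hom ((j.appLE j.opensRange ⊤ hsect).hom
        (((CohB1.ProjSpaceOver 1 Y).presheaf.map (homOfLE hW).op).hom
          ((pz 1 Y).app (chart 1 i) (P1Div.u i)))) = _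
      refine Eq.trans (congrArg (Scheme.ΓSpecIso (CommRingCat.of B)).hom.hom ?_) hmu
      rw [← CommRingCat.comp_apply, Scheme.Hom.map_appLE, ← CommRingCat.comp_apply,
        Scheme.Hom.app_eq_appLE, Scheme.Hom.appLE_comp_appLE]
      rfl
    exact mem_nzd_of_injective θ hθ.1 _ (hval ▸ hX)

end Groth.Agent.NormDef
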