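import Groth.Agent.NormDef.Space
import Groth.Agent.NormDef.Line
import Groth.Agent.PnReg.BaseChange
import Groth.Agent.KoszulLib.Flat
import Groth.Agent.KoszBlow.Scheme
import Groth.Agent.CompInt.Cohom
import Groth.Agent.K0ResLF.PnBC
import Groth.Agent.RZExt.Consequences

/-!
The deformation to the normal cone of a regular closed immersion `f : X ⟶ Y`, inside `P¹ × Y`.
-/

set_option autoImplicit false
set_option linter.style.haveILetI false
set_option backward.isDefEq.respectTransparency false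
set_option backward.isDefEq.respectTransparency.types false
set_option maxHeartbeats 1000000

universe u

open CategoryTheory CategoryTheory.Limits AlgebraicGeometry TopologicalSpace
open Groth.Agent.Wiebe (Acyclic)
open Groth.Agent.P1Div (dom)
open KRR (projSpaceMap)

noncomputable section

namespace Groth.Agent.NormDef

variable {X Y : Scheme.{u}} (f : X ⟶ Y)

/-- The centre of the deformation. -/
abbrev centre : X ⟶ KRR.PY 1 Y := f ≫ P1.sect Y 1

theorem isPullback_sect (k : Fin (1 + 1)) :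
    IsPullback (P1.sect X k) f (projSpaceMap 1 f) (P1.sect Y k) := by
  have hY : P1.sect Y k ≫ KRR.pr 1 Y = 𝟙 Y := pullback.lift_snd _ _ _
  have hX : P1.sect X k ≫ KRR.pr 1 X = 𝟙 X := pullback.lift_snd _ _ _
  have hw : P1.sect X k ≫ projSpaceMap 1 f = f ≫ P1.sect Y k := by
    refine pullback.hom_ext ?_ ?_
    · rw [Category.assoc, Category.assoc, PnReg.map_fst]
      erw [pullback.lift_fst, pullback.lift_fst]
      rw [← Category.assoc, specULiftZIsTerminal.hom_ext (f ≫ specULiftZIsTerminal.from Y) (specULiftZIsTerminal.from X)]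
    · show (P1.sect X k ≫ projSpaceMap 1 f) ≫ KRR.pr 1 Y = (f ≫ P1.sect Y k) ≫ KRR.pr 1 Y
      rw [Category.assoc, Category.assoc, (PnReg.isPullback_map f).w, hY, ← Category.assoc, hX,
        Category.id_comp, Category.comp_id]
  have hrect : IsPullback f (P1.sect X k ≫ KRR.pr 1 X) (P1.sect Y k ≫ KRR.pr 1 Y) f := by
    rw [hX, hY]
    exact IsPullback.of_vert_isIso ⟨by simp⟩
  exact (IsPullback.of_bot hrect hw.symm (PnReg.isPullback_map f)).flip

theorem isPullback_sect_comap [IsClosedImmersion f] (k : Fin (1 + 1)) :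
    (P1.sect Y k).ker.comap (projSpaceMap 1 f) = (P1.sect X k).ker :=
  (ThickSys.ker_of_isPullback (isPullback_sect f k)).symm

theorem ker_centre [IsClosedImmersion f] [IsClosedImmersion (projSpaceMap 1 f)] :
    (centre f).ker = (projSpaceMap 1 f).ker ⊔ (P1.sect Y 1).ker := by
  rw [sup_comm, ← CompInt.map_comap_eq_sup, isPullback_sect_comap, Scheme.IdealSheafData.map_ker,
    (isPullback_sect f 1).w]

theorem isRegular_of_cartier_ker {S T : Scheme.{u}} {g : S ⟶ T} [IsClosedImmersion g]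
    (hI : BlowUp.IsEffCartierIdeal g.ker) : Mor2.IsRegularClosedImmersion g := by
  refine RegMor2.isRegularClosedImmersion_of fun z => ?_
  obtain ⟨U, hU, c, hc, hIc⟩ := hI (g z)
  refine ⟨U, hU, IsZariskiLocalAtTarget.restrict (P := @IsClosedImmersion) inferInstance U.1, [c],
    (RingTheory.Sequence.isWeaklyRegular_singleton_iff _ c).2 (IsSMulRegular.of_right_eq_zero_of_smul fun x hx => ?_),
    ?_⟩
  · rw [smul_eq_mul, mul_comm] at hx
    exact (mem_nonZeroDivisors_iff.1 hc).2 x hx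
  · rw [← Scheme.Hom.ker_apply g U, hIc, Ideal.ofList_singleton]

theorem isRegular_centre (hf : Mor2.IsRegularClosedImmersion f) : Mor2.IsRegularClosedImmersion (centre f) := by
  haveI := P1Div.isClosedImmersion_sect Y 1
  exact RegMor2.comp (isRegular_of_cartier_ker (cartier_sect (X := Y) 1)) hf

theorem dense_centre [IsClosedImmersion f] : Dense (Set.range (centre f))ᶜ := by
  haveI := P1Div.isClosedImmersion_sect Y 1
  refine (RZExt.dense_awayFrom (cartier_sect (X := Y) 1)).mono (Set.compl_subset_compl.2 ?_)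
  rintro _ ⟨x, rfl⟩
  rw [Scheme.Hom.support_ker]
  exact subset_closure ⟨f x, rfl⟩

theorem locEqs (hf : Mor2.IsRegularClosedImmersion f) :
    LocEqs (projSpaceMap 1 f) (P1.sect Y 1).ker := fun p => by
  haveI := hf.1
  haveI := K0ResLF.flat_pr 1 Y
  obtain ⟨U, n, a, hqU, ha, hI⟩ := KoszBlow.exists_acyclic_of_regularImmersion hf (KRR.pr 1 Y p)
  obtain ⟨W, hpW, hWU, t, hJ⟩ : ∃ (W : (KRR.PY 1 Y).affineOpens) (_ : p ∈ W.1) (_ : W.1 ≤ KRR.pr 1 Y ⁻¹ᵁ U.1)
      (t : Γ(KRR.PY 1 Y, W.1)), (P1.sect Y 1).ker.ideal W = Ideal.span {t} := by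
    rcases P1Div.dom_cover p with h | h
    · obtain ⟨W, hW, hpW, hle⟩ := exists_isAffineOpen_mem_and_subset (x := p)
        (U := dom Y 0 ⊓ KRR.pr 1 Y ⁻¹ᵁ U.1) ⟨h, hqU⟩
      replace hle : W ≤ dom Y 0 ⊓ KRR.pr 1 Y ⁻¹ᵁ U.1 := hle
      exact ⟨⟨W, hW⟩, hpW, hle.trans inf_le_right, 1,
        (ker_ideal_dom_succ 1 ⟨W, hW⟩ (hle.trans inf_le_left)).trans Ideal.span_singleton_one.symm⟩
    · obtain ⟨W, hW, hpW, hle⟩ := exists_isAffineOpen_mem_and_subset (x := p)
        (U := dom Y 1 ⊓ KRR.pr 1 Y ⁻¹ᵁ U.1) ⟨h, hqU⟩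
      replace hle : W ≤ dom Y 1 ⊓ KRR.pr 1 Y ⁻¹ᵁ U.1 := hle
      exact ⟨⟨W, hW⟩, hpW, hle.trans inf_le_right, _, ker_ideal_dom 1 ⟨W, hW⟩ (hle.trans inf_le_left)⟩
  let ρ := ((KRR.pr 1 Y).appLE U.1 W.1 hWU).hom
  have hρ : Acyclic (ρ ∘ a) := by
    letI := ρ.toAlgebra
    haveI : Module.Flat Γ(Y, U.1) Γ(KRR.PY 1 Y, W.1) :=
      HasRingHomProperty.appLE @Flat (KRR.pr 1 Y) inferInstance U W hWU
    exact KoszulLib.acyclic_baseChange _ ha
  have hker : (projSpaceMap 1 f).ker.ideal W = Ideal.span (Set.range (ρ ∘ a)) := by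
    rw [ThickSys.ker_of_isPullback (PnReg.isPullback_map f), FpqcDescent.ideal_comap_appLE f.ker _ U W hWU, hI,
      Ideal.map_span, ← Set.range_comp]
  refine ⟨W, n, Fin.cons t (ρ ∘ a), hpW, by rwa [Fin.tail_cons], fun x hx => ?_, hJ, by rw [Fin.tail_cons, hker]⟩
  haveI := (K0ResLF.isRegularClosedImmersion_projSpaceMap 1 hf).1
  rw [Fin.tail_cons, ← hker, Scheme.Hom.ker_apply, RingHom.mem_ker] at hx ⊢
  rw [map_mul, Fin.cons_zero] at hx
  have ht : ((projSpaceMap 1 f).app W.1) t ∈ nonZeroDivisors Γ(KRR.PY 1 X, projSpaceMap 1 f ⁻¹ᵁ W.1) := by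
    rw [Scheme.Hom.app_eq_appLE]
    refine BlowBC.nzd_of_cartier (P1.sect Y 1).ker (U := W) ?_ le_rfl (by rw [hJ, Ideal.map_span, Set.image_singleton])
    rw [isPullback_sect_comap f 1]
    exact cartier_sect 1
  exact (mem_nonZeroDivisors_iff.1 ht).1 _ hx

end Groth.Agent.NormDef
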