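import Groth.Agent.NormDef.Adams

/-!
The deformation to the normal cone as a reusable setting.
-/

set_option autoImplicit false
set_option linter.style.haveILetI false
set_option linter.unusedSectionVars false
set_option backward.isDefEq.respectTransparency false
set_option backward.isDefEq.respectTransparency.types false
set_option maxHeartbeats 1600000

universe u

open CategoryTheory CategoryTheory.Limits AlgebraicGeometry LambdaRing
open Groth.Agent.SGA6Ext (cls pullK mulK kvbRing kvbLam kvbPos)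
open Groth.Agent.K0ResLF (IsPush)
open KRR (projSpaceMap)

attribute [local instance] HasDerivedCategory.standard

noncomputable section

namespace Groth.Agent.NormDef

attribute [local instance] kvbRing kvbLam

variable {X Y : Scheme.{u}}

instance isClosedImmersion_map (n : ℕ) (f : X ⟶ Y) [IsClosedImmersion f] : IsClosedImmersion (projSpaceMap n f) :=
  MorphismProperty.of_isPullback (P := @IsClosedImmersion) (PnReg.isPullback_map f).flip ‹_›

/-- The alternating sum of exterior powers with prescribed rank. -/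
def lamAltN {K : Type (u + 1)} [CommRing K] [LambdaOps K] (d : ℕ) (c : K) : K :=
  ∑ i ∈ Finset.range (d + 1), (-1 : K) ^ i * LambdaOps.lam i c

theorem lamAlt_eq_lamAltN {K : Type (u + 1)} [CommRing K] [LambdaOps K] (P : PosStructure K) {d : ℕ} {c : K}
    (hc : P.aug c = (d : ℤ)) : KRR.lamAlt P c = lamAltN d c := by
  rw [KRR.lamAlt, hc, Int.toNat_natCast, lamAltN]

theorem pullK_lamAltN (g : X ⟶ Y) (d : ℕ) (c : SGA6.Kvb Y) : pullK g (lamAltN d c) = lamAltN d (pullK g c) := by
  show KSplit.pullRing g (lamAltN d c) = _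
  rw [lamAltN, map_sum]
  refine Finset.sum_congr rfl fun i _ => ?_
  rw [map_mul, map_pow, map_neg, map_one]
  exact congrArg _ (KSplit.pullK_lamK g i c)

/-- The deformation to the normal cone of `f`. -/
structure Setup (f : X ⟶ Y) [IsClosedImmersion f] (d : ℕ) where
  M : Scheme.{u}
  b : M ⟶ KRR.PY 1 Y
  D : Deform (projSpaceMap 1 f) (P1.sect Y 1).ker b
  noeth : IsNoetherian M
  proper : IsProper b
  enough : KRR.HasEnoughLocFree M
  regF : Mor2.IsRegularClosedImmersion D.F
  rankF : FlatMod.IsFinLocFreeOfRank d (Omega.conormal D.F)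

theorem exists_setup [IsNoetherian Y] [ConnectedSpace ↥Y] (hY : KRR.HasEnoughLocFree Y) (f : X ⟶ Y) [IsClosedImmersion f]
    (hf : Mor2.IsRegularClosedImmersion f) [IsNoetherian X] [ConnectedSpace ↥X] {d : ℕ}
    (hC : FlatMod.IsFinLocFreeOfRank d (Omega.conormal f)) : Nonempty (Setup f d) := by
  -- the projective lines
  obtain ⟨hNP, hCP⟩ := K0ResLF.RR.stable_bunPn (n := 1) (Y := Y)
  obtain ⟨hNPX, hCPX⟩ := K0ResLF.RR.stable_bunPn (n := 1) (Y := X)
  haveI := K0ResLF.flat_pr 1 Y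
  have hP := K0ResLF.hasEnoughLocFree_PY hY 1
  let i := projSpaceMap 1 f
  have hi := K0ResLF.isRegularClosedImmersion_projSpaceMap 1 hf
  haveI hicl := hi.1
  haveI := P1Div.isClosedImmersion_sect Y 1
  haveI := P1Div.isClosedImmersion_sect Y 0
  haveI := P1Div.isClosedImmersion_sect X 1
  haveI := P1Div.isClosedImmersion_sect X 0
  let q := KRR.pr 1 X
  let p := KRR.pr 1 Y
  have hpr : ∀ k, P1.sect Y k ≫ p = 𝟙 Y := fun k => pullback.lift_snd _ _ _
  have hqr : ∀ k, P1.sect X k ≫ q = 𝟙 X := fun k => pullback.lift_snd _ _ _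
  have hsectq : ∀ k (w : SGA6.Kvb X), pullK (P1.sect X k) (pullK q w) = w := fun k w => by
    rw [← KSplit.pullK_comp, hqr, KSplit.pullK_id]
  obtain ⟨C, hC'⟩ : ∃ C : (KRR.PY 1 Y).IdealSheafData, C = (centre f).ker := ⟨_, rfl⟩
  let J := (P1.sect Y 1).ker
  let J0 := (P1.sect Y 0).ker
  have hJ : BlowUp.IsEffCartierIdeal J := cartier_sect 1
  have hJ0 : BlowUp.IsEffCartierIdeal J0 := cartier_sect 0
  have hc := isRegular_centre f hf
  haveI := hc.1
  have hcK : (centre f).ker = i.ker ⊔ J := ker_centre f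
  -- the blow-up
  obtain ⟨M, b, hb⟩ := BlowUpExist.exists_isBlowUp (KRR.PY 1 Y) (i.ker ⊔ J)
  obtain ⟨D⟩ := nonempty_deform (locEqs f hf) hJ hb
  have hft : BlowUp.IsFiniteTypeIdeal (i.ker ⊔ J) := RZUnion.isFiniteType_of_isLocallyNoetherian _
  have hloc : ∀ y : ↥(KRR.PY 1 Y), ∃ (U : (KRR.PY 1 Y).affineOpens), y ∈ U.1 ∧ ((i.ker ⊔ J).ideal U).FG := fun y => by
    obtain ⟨U, n, c, hyU, -, -, hJU, hIU⟩ := locEqs f hf y
    classical
    exact ⟨U, hyU, ⟨Finset.univ.image c, by
      rw [Finset.coe_image, Finset.coe_univ, Set.image_univ, Deform.ideal_centre hJU hIU]⟩⟩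
  haveI : IsProper b := BlowUpExist.isProper_of_isBlowUp hb hloc
  haveI : IsLocallyNoetherian M := LocallyOfFiniteType.isLocallyNoetherian b
  haveI : CompactSpace ↥M := QuasiCompact.compactSpace_of_compactSpace b
  haveI : IsNoetherian M := {}
  have hM : KRR.HasEnoughLocFree M := fun G hG => ResDesc.hasResolutionProperty_of_isRelAmple b
    (hasResolution_of_hasEnough hP) _ (⟨inferInstance, fun V => BlowAmp.isAmple_restrict_exceptional hb hft V⟩ :
      RelAmple.IsRelAmple b (ClSub.idealMod ((i.ker ⊔ J).comap b))) G hG.1 hG.2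
  -- the strict transform
  have hF := D.isRegular_F
  haveI := hF.1
  obtain ⟨eC⟩ := ExtFund.nonempty_conormal_pullback (PnReg.isPullback_map (n := 1) f)
  have hCi : FlatMod.IsFinLocFreeOfRank d (Omega.conormal i) :=
    Nagata.isFinLocFreeOfRank_of_iso eC (Nagata.isFinLocFreeOfRank_pullback q hC)
  have hcF := D.conormal_F hCi
  exact ⟨⟨M, b, D, inferInstance, inferInstance, hM, hF, hcF⟩⟩

namespace Setup

variable {f : X ⟶ Y} [IsClosedImmersion f] {d : ℕ} (S : Setup f d)

/-- The data on the exceptional divisor. -/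
theorem exists_excData [IsNoetherian Y] [ConnectedSpace ↥Y] (hY : KRR.HasEnoughLocFree Y)
    (hf : Mor2.IsRegularClosedImmersion f) [IsNoetherian X] [ConnectedSpace ↥X]
    (hC : FlatMod.IsFinLocFreeOfRank d (Omega.conormal f)) :
    ∃ (π : S.D.E.subscheme ⟶ X) (s : X ⟶ S.D.E.subscheme) (L E' : S.D.E.subscheme.Modules),
      ConnectedSpace ↥S.D.E.subscheme ∧ π ≫ centre f = S.D.E.subschemeι ≫ S.b ∧ s ≫ π = 𝟙 X ∧ PicF.IsInvertible L ∧ pullK s (cls L) = 1 ∧
      cls L * pullK S.D.E.subschemeι (cls (ClSub.idealMod S.D.E)) = 1 ∧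
      FlatMod.IsFinLocFreeOfRank d E' ∧ cls E' = pullK π (cls (Omega.conormal f)) * cls L ∧
      ∀ (aF : SGA6.Kvb (KRR.PY 1 X) →+ SGA6.Kvb S.M), IsPush S.D.F aF → ∀ y : SGA6.Kvb S.D.E.subscheme,
        pullK S.D.E.subschemeι (aF (pullK (KRR.pr 1 X) (pullK s y))) = lamAltN d (cls E') * y := by
  haveI := S.noeth
  haveI := S.proper
  have hM := S.enough
  have hF := S.regF
  haveI := hF.1
  have hcF := S.rankF
  obtain ⟨hNP, hCP⟩ := K0ResLF.RR.stable_bunPn (n := 1) (Y := Y)
  haveI := K0ResLF.flat_pr 1 Y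
  let i := projSpaceMap 1 f
  haveI := P1Div.isClosedImmersion_sect Y 1
  haveI := P1Div.isClosedImmersion_sect X 1
  haveI := P1Div.isClosedImmersion_sect X 0
  haveI := (isRegular_centre f hf).1
  let q := KRR.pr 1 X
  let J := (P1.sect Y 1).ker
  let D := S.D
  have hqr : ∀ k, P1.sect X k ≫ q = 𝟙 X := fun k => pullback.lift_snd _ _ _
  have hsectq : ∀ k (w : SGA6.Kvb X), pullK (P1.sect X k) (pullK q w) = w := fun k w => by
    rw [← KSplit.pullK_comp, hqr, KSplit.pullK_id]
  have hcK : (centre f).ker = i.ker ⊔ J := ker_centre f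
  obtain ⟨eC⟩ := ExtFund.nonempty_conormal_pullback (PnReg.isPullback_map (n := 1) f)
  have hCi : FlatMod.IsFinLocFreeOfRank d (Omega.conormal i) :=
    Nagata.isFinLocFreeOfRank_of_iso eC (Nagata.isFinLocFreeOfRank_pullback q hC)
  have hsZ : (P1.sect X 1).ker = J.comap i := (isPullback_sect_comap f 1).symm
  have hw : P1.sect X 1 ≫ i = centre f := (isPullback_sect f 1).w
  obtain ⟨s, hsq, hs⟩ := exists_excSect D hcK hw hsZ
  let E := D.E.subscheme
  let π := excπ D hcK
  haveI : IsClosedImmersion (s ≫ D.E.subschemeι) := by rw [hsq.w]; infer_instance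
  haveI : IsClosedImmersion s := IsClosedImmersion.of_comp s D.E.subschemeι
  haveI : IsLocallyNoetherian E := LocallyOfFiniteType.isLocallyNoetherian D.E.subschemeι
  haveI : CompactSpace ↥E := QuasiCompact.compactSpace_of_compactSpace D.E.subschemeι
  haveI : IsNoetherian E := {}
  obtain ⟨B, hB⟩ := exists_bun D hcK hw hsZ hCi
  haveI : ConnectedSpace ↥E := by
    show ConnectedSpace ↥D.E.subscheme
    rw [← hB]
    exact KSplit.connectedSpace_bun B
  have hEe : KRR.HasEnoughLocFree E := K0ResLF.hasEnoughLocFree_closed D.E.subschemeι hM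
  have hsr := isRegular_excSect D hcK hw hsZ hsq
  have hcs := conormal_excSect D hcK hw hsZ hCi hsq
  obtain ⟨L, t, hL, ⟨ε⟩, hE', ht⟩ := exists_cosection D hcK hw hsZ hCi hsq
  have hCfl := SGA6Ext.finLocFree_of_rank hC
  have hCil := SGA6Ext.finLocFree_of_rank hCi
  have hLl : FlatMod.IsFinLocFree L := ResDesc.isFinLocFree_of_isInvertible hL
  have hcls : cls (Omega.conormal i) = pullK q (cls (Omega.conormal f)) := by
    rw [SGA6Ext.pullK_cls q hCfl]
    exact (SGA6Ext.cls_iso eC (DerPerf.isFinLocFree_pullback q hCfl)).symm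
  have hone : pullK s (cls (Omega.conormal D.E.subschemeι)) = 1 := by
    have hX1 : BlowUp.IsEffCartierIdeal (P1.sect X 1).ker := cartier_sect 1
    have hX0 : BlowUp.IsEffCartierIdeal (P1.sect X 0).ker := cartier_sect 0
    have hEF : D.E.comap D.F = (P1.sect X 1).ker := by
      rw [← Scheme.IdealSheafData.comap_comp, D.F_comp, Deform.comap_centre, hsZ]
    have hdis : (P1.sect X 0).ker.comap (P1.sect X 1) = ⊤ := BlowUpLib.comap_eq_top _ _ fun y hy => by
      rw [← SetLike.mem_coe, Scheme.Hom.support_ker,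
        (P1.sect X 0).isClosedEmbedding.isClosed_range.closure_eq] at hy
      exact Set.disjoint_left.1 disjoint_sect hy ⟨y, rfl⟩
    have h1 : cls (Omega.conormal D.E.subschemeι) = pullK D.E.subschemeι (cls (ClSub.idealMod D.E)) := by
      rw [SGA6Ext.pullK_cls _ (isFinLocFree_idealMod D.cart_E)]
      show cls ((Scheme.Modules.pullback _).obj (ClSub.idealMod D.E.subschemeι.ker)) = _
      rw [Scheme.IdealSheafData.ker_subschemeι]
    rw [h1, ← KSplit.pullK_comp, hsq.w, KSplit.pullK_comp, pullK_cls_idealMod D.F D.cart_E (hEF ▸ hX1), hEF,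
      ← cls_idealMod_sect, pullK_cls_idealMod _ hX0 (hdis ▸ BlowUpLib.cartier_top), hdis, cls_idealMod_top]
  have hL1 : pullK s (cls L) = 1 := by
    have hNl : FlatMod.IsFinLocFree (Omega.conormal D.E.subschemeι) :=
      DerPerf.isFinLocFree_pullback _ (by
        rw [Scheme.IdealSheafData.ker_subschemeι]; exact isFinLocFree_idealMod D.cart_E)
    have h1 : cls (Omega.conormal D.E.subschemeι) * cls L = 1 := by
      rw [mul_eq, SGA6Ext.mulK_cls hNl hLl]
      exact SGA6Ext.cls_iso ε (SGA6Ext.isFinLocFree_tm hNl hLl)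
    have h2 := congrArg (pullK s) h1
    rwa [pullK_mul, hone, one_mul, pullK_one] at h2
  have hcE : pullK s (cls (CohB1.tensorMod
      ((Scheme.Modules.pullback (π ≫ P1.sect X 1)).obj (Omega.conormal i)) L)) = cls (Omega.conormal f) := by
    have hp := DerPerf.isFinLocFree_pullback (π ≫ P1.sect X 1) hCil
    rw [← SGA6Ext.mulK_cls hp hLl, ← mul_eq, pullK_mul, hL1, mul_one, ← SGA6Ext.pullK_cls _ hCil,
      ← KSplit.pullK_comp, ← Category.assoc, hs, Category.id_comp, hcls, hsectq]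
  have hNE : pullK D.E.subschemeι (cls (ClSub.idealMod D.E)) = cls (Omega.conormal D.E.subschemeι) := by
    rw [SGA6Ext.pullK_cls _ (isFinLocFree_idealMod D.cart_E)]
    show _ = cls ((Scheme.Modules.pullback _).obj (ClSub.idealMod D.E.subschemeι.ker))
    rw [Scheme.IdealSheafData.ker_subschemeι]
  refine ⟨π, s, L, _, ‹ConnectedSpace ↥E›, excπ_fac D hcK, hs, hL, hL1, ?_, hE', ?_, fun aF haF y => ?_⟩
  · have hNl : FlatMod.IsFinLocFree (Omega.conormal D.E.subschemeι) :=
      DerPerf.isFinLocFree_pullback _ (by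
        rw [Scheme.IdealSheafData.ker_subschemeι]; exact isFinLocFree_idealMod D.cart_E)
    rw [hNE, mul_comm, mul_eq, SGA6Ext.mulK_cls hNl hLl]
    exact SGA6Ext.cls_iso ε (SGA6Ext.isFinLocFree_tm hNl hLl)
  · rw [← SGA6Ext.mulK_cls (DerPerf.isFinLocFree_pullback (π ≫ P1.sect X 1) hCil) hLl, ← mul_eq,
      ← SGA6Ext.pullK_cls _ hCil, KSplit.pullK_comp, hcls, hsectq]
  · obtain ⟨as, has⟩ := push_exists hEe hsr
    have h1 : as 1 = lamAltN d _ :=
      (Groth.Agent.S3803.result hEe d _ hE' t s ht hsr hcs _ _ _ (KSplit.isModel_kvb X) _ _ _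
        (KSplit.isModel_kvb D.E.subscheme) as has).trans
        (lamAlt_eq_lamAltN _ ((KSplit.isModel_kvb D.E.subscheme).aug_cl d _ hE'))
    rw [push_bc hsq hF hsr hcF hcs hM haF has, hsectq, push_pull hEe hsr has, h1]
    rfl

/-- The fibre over zero. -/
theorem exists_zeroFibre : ∃ j0 : Y ⟶ S.M, j0 ≫ S.b = P1.sect Y 0 ∧ IsPullback f (P1.sect X 0) j0 S.D.F ∧
    ∀ (T : Scheme.{u}) (g : T ⟶ Y) (l : T ⟶ S.M), l ≫ S.b = g ≫ P1.sect Y 0 → l = g ≫ j0 := by
  haveI := P1Div.isClosedImmersion_sect Y 1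
  let i := projSpaceMap 1 f
  let J := (P1.sect Y 1).ker
  let D := S.D
  have hb := D.blowUp
  haveI : IsClosedImmersion (centre f) := inferInstanceAs (IsClosedImmersion (f ≫ P1.sect Y 1))
  have hcK : (centre f).ker = i.ker ⊔ J := ker_centre f
  have hdis0 : (i.ker ⊔ J).comap (P1.sect Y 0) = ⊤ := BlowUpLib.comap_eq_top _ _ fun y hy => by
    rw [← hcK, ← SetLike.mem_coe, Scheme.Hom.support_ker, (centre f).isClosedEmbedding.isClosed_range.closure_eq] at hy
    obtain ⟨w, hw'⟩ := hy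
    exact Set.disjoint_left.1 disjoint_sect ⟨y, rfl⟩ ⟨f w, hw'⟩
  obtain ⟨j0, hj0, -⟩ := hb.2 Y (P1.sect Y 0) (hdis0 ▸ BlowUpLib.cartier_top)
  have hsq0 : IsPullback f (P1.sect X 0) j0 D.F := by
    have hbig := (isPullback_sect f 0).flip
    have w : f ≫ j0 = P1.sect X 0 ≫ D.F := by
      refine (hb.2 X (f ≫ P1.sect Y 0) ?_).unique (by rw [Category.assoc, hj0]) ?_
      · rw [Scheme.IdealSheafData.comap_comp, hdis0, show (⊤ : Y.IdealSheafData).comap f = ⊤ from
          BlowUpLib.comap_eq_top _ _ fun y h => by simp only [Scheme.IdealSheafData.support_top] at h; exact h]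
        exact BlowUpLib.cartier_top
      · rw [Category.assoc, D.F_comp]
        exact hbig.w.symm
    refine ⟨⟨w⟩, ⟨PullbackCone.IsLimit.mk w (fun σ => hbig.lift σ.fst σ.snd ?_) (fun σ => hbig.lift_fst _ _ _)
      (fun σ => hbig.lift_snd _ _ _) fun σ m h1 h2 => hbig.hom_ext (by rw [h1, hbig.lift_fst]) (by rw [h2, hbig.lift_snd])⟩⟩
    rw [← hj0, ← Category.assoc, σ.condition, Category.assoc, D.F_comp]
  refine ⟨j0, hj0, hsq0, fun T g l hl => ?_⟩
  refine (hb.2 T (g ≫ P1.sect Y 0) ?_).unique hl (by rw [Category.assoc, hj0])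
  rw [Scheme.IdealSheafData.comap_comp, hdis0, show (⊤ : Y.IdealSheafData).comap g = ⊤ from
    BlowUpLib.comap_eq_top _ _ fun y h => by simp only [Scheme.IdealSheafData.support_top] at h; exact h]
  exact BlowUpLib.cartier_top

/-- A class vanishing on both components of the fibre at infinity vanishes on the fibre at zero. -/
theorem eq_zero [IsNoetherian Y] [ConnectedSpace ↥Y] (hY : KRR.HasEnoughLocFree Y)
    (hf : Mor2.IsRegularClosedImmersion f) {j0 : Y ⟶ S.M} (hj0 : j0 ≫ S.b = P1.sect Y 0)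
    (huniq : ∀ (T : Scheme.{u}) (g : T ⟶ Y) (l : T ⟶ S.M), l ≫ S.b = g ≫ P1.sect Y 0 → l = g ≫ j0)
    (Dt : SGA6.Kvb S.M) (hA : pullK S.D.A.subschemeι Dt = 0) (hE : pullK S.D.E.subschemeι Dt = 0) :
    pullK j0 Dt = 0 := by
  haveI := S.noeth
  have hM := S.enough
  obtain ⟨hNP, hCP⟩ := K0ResLF.RR.stable_bunPn (n := 1) (Y := Y)
  have hP := K0ResLF.hasEnoughLocFree_PY hY 1
  haveI := P1Div.isClosedImmersion_sect Y 1
  haveI := P1Div.isClosedImmersion_sect Y 0
  let J := (P1.sect Y 1).ker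
  let J0 := (P1.sect Y 0).ker
  let D := S.D
  let p := KRR.pr 1 Y
  have hpr : ∀ k, P1.sect Y k ≫ p = 𝟙 Y := fun k => pullback.lift_snd _ _ _
  have hJ : BlowUp.IsEffCartierIdeal J := cartier_sect 1
  have hJ0 : BlowUp.IsEffCartierIdeal J0 := cartier_sect 0
  have hb := D.blowUp
  have hc := isRegular_centre f hf
  haveI := hc.1
  have hcK : (centre f).ker = (projSpaceMap 1 f).ker ⊔ J := ker_centre f
  have hA' : Dt * (1 - cls (ClSub.idealMod D.A)) = 0 :=
    (mul_divisor_congr hM D.cart_A (y := 0) (by rw [hA, map_zero])).trans (zero_mul _)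
  have hE' : Dt * (1 - cls (ClSub.idealMod D.E)) = 0 :=
    (mul_divisor_congr hM D.cart_E (y := 0) (by rw [hE, map_zero])).trans (zero_mul _)
  have hJb := BlowUpLib.cartier_comap_blowUp hb hJ
  have hJ0b := BlowUpLib.cartier_comap_blowUp hb hJ0
  have hab : cls (ClSub.idealMod (J0.comap S.b)) = cls (ClSub.idealMod D.A) * cls (ClSub.idealMod D.E) := by
    rw [← pullK_cls_idealMod S.b hJ0 hJ0b, cls_idealMod_sect, pullK_cls_idealMod S.b hJ hJb, D.hA,
      cls_idealMod_mul D.cart_A D.cart_E]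
  have hT : Dt * (1 - cls (ClSub.idealMod (J0.comap S.b))) = 0 := by
    have h1 : Dt * (1 - cls (ClSub.idealMod D.A) * cls (ClSub.idealMod D.E)) =
        Dt * (1 - cls (ClSub.idealMod D.A)) +
          cls (ClSub.idealMod D.A) * (Dt * (1 - cls (ClSub.idealMod D.E))) := by ring
    rw [hab, h1, hA', hE', mul_zero, add_zero]
  set D₀ := pullK j0 Dt with hD₀
  have hL0 : Dt * (1 - cls (ClSub.idealMod (J0.comap S.b))) =
      pullK S.b (pullK p D₀) * (1 - cls (ClSub.idealMod (J0.comap S.b))) := by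
    refine mul_divisor_congr hM hJ0b ?_
    let ι := (J0.comap S.b).subschemeι
    have hle : (P1.sect Y 0).ker ≤ (ι ≫ S.b).ker := by
      rw [← Scheme.IdealSheafData.map_ker, Scheme.IdealSheafData.ker_subschemeι]
      exact Scheme.IdealSheafData.le_map_comap _ _
    let g := IsClosedImmersion.lift (P1.sect Y 0) (ι ≫ S.b) hle
    have hgι : g ≫ j0 = ι := (huniq _ g ι (IsClosedImmersion.lift_fac _ _ _).symm).symm
    show pullK ι Dt = pullK ι (pullK S.b (pullK p D₀))
    rw [← hgι, KSplit.pullK_comp, KSplit.pullK_comp, ← hD₀, ← KSplit.pullK_comp j0, hj0, ← KSplit.pullK_comp _ p, hpr,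
      KSplit.pullK_id]
  have hzero : pullK p D₀ * (1 - cls (ClSub.idealMod J0)) = 0 := by
    refine pullK_injective_blowUp hP hc (dense_centre f) (hcK.symm ▸ hb) ?_
    rw [pullK_mul, pullK_sub S.b 1, pullK_one, pullK_cls_idealMod S.b hJ0 hJ0b, ← hL0, hT, map_zero]
  obtain ⟨a0, ha0⟩ := push_exists hP (K0ResLF.isRegularClosedImmersion_sect (hpr 0))
  have h0 : a0 D₀ = 0 := by
    have h1 := push_pull hP (K0ResLF.isRegularClosedImmersion_sect (hpr 0)) ha0 (pullK p D₀)
    rw [← KSplit.pullK_comp, hpr, KSplit.pullK_id, push_one_of_cartier_ker hP hJ0 ha0, mul_comm, hzero] at h1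
    exact h1
  have hfin := K0ResLF.push_sect hP (hpr 0) (K0ResLF.isRegularClosedImmersion_sect (hpr 0)) ha0 D₀
  rw [h0, map_zero] at hfin
  exact hfin.symm

/-- The two strict transforms are disjoint. -/
theorem disjoint : Disjoint (Set.range S.D.A.subschemeι) (Set.range S.D.F) := by
  haveI := S.regF.1
  rw [Set.disjoint_left]
  rintro m hmA ⟨w, rfl⟩
  have hmA' : S.D.F w ∈ S.D.A.support := S.D.A.range_subschemeι.le hmA
  have hmK : S.D.F w ∈ S.D.K.support := by
    rw [← S.D.ker_F, ← SetLike.mem_coe, Scheme.Hom.support_ker]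
    exact subset_closure ⟨w, rfl⟩
  obtain ⟨W, hW, hmW, -⟩ := exists_isAffineOpen_mem_and_subset (x := S.D.F w) (U := (⊤ : S.M.Opens)) trivial
  rw [Scheme.IdealSheafData.mem_support_iff_of_mem (U := ⟨W, hW⟩) hmW, Scheme.mem_zeroLocus_iff] at hmA' hmK
  have h1 : (1 : Γ(S.M, W)) ∈ S.D.K.ideal ⟨W, hW⟩ ⊔ S.D.A.ideal ⟨W, hW⟩ := by
    rw [← Pi.sup_apply, ← Scheme.IdealSheafData.ideal_sup, S.D.sup_eq_top]
    exact Submodule.mem_top
  obtain ⟨k, hk, l, hl, hkl⟩ := Submodule.mem_sup.1 h1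
  have hu : IsUnit ((S.M.presheaf.germ W _ hmW).hom k + (S.M.presheaf.germ W _ hmW).hom l) := by
    rw [← map_add, hkl, map_one]; exact isUnit_one
  rcases IsLocalRing.isUnit_or_isUnit_of_isUnit_add hu with h | h
  · exact hmK k hk ((S.M.mem_basicOpen k _ hmW).2 h)
  · exact hmA' l hl ((S.M.mem_basicOpen l _ hmW).2 h)

end Setup

end Groth.Agent.NormDef
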