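import Groth.Agent.NormDef.Chart
import Groth.Agent.BlowExcBundle.Main
import Groth.Agent.ModPairProd.Div
import Groth.Agent.BlowUpExist.Global
import Groth.Agent.RegMor2.Basic
import Groth.Agent.KoszulLib.SchNoeth
import Groth.Agent.KoszulLib.Iff

/-!
Blowing up the intersection of a regularly immersed subscheme with a transversal divisor:
the strict transforms of both.
-/

set_option autoImplicit false
set_option linter.style.haveILetI false
set_option linter.unusedSectionVars false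
set_option backward.isDefEq.respectTransparency false
set_option backward.isDefEq.respectTransparency.types false
set_option maxHeartbeats 1000000

universe u

open CategoryTheory CategoryTheory.Limits AlgebraicGeometry TopologicalSpace
open Groth.Agent.Wiebe (Acyclic)
open Groth.Agent.BlowCech (Charts rho)
open Groth.Agent.BlowExcBundle (cf cf_spec cf_self)

noncomputable section

namespace Groth.Agent.NormDef

variable {Z P M : Scheme.{u}}

/-- Local equations of a regular closed subscheme and of a divisor meeting it properly. -/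
def LocEqs (i : Z ⟶ P) (J : P.IdealSheafData) : Prop :=
  ∀ p : P, ∃ (U : P.affineOpens) (n : ℕ) (a : Fin (n + 1) → Γ(P, U.1)), p ∈ U.1 ∧ Acyclic (Fin.tail a) ∧ RegMod a ∧
    J.ideal U = Ideal.span {a 0} ∧ i.ker.ideal U = Ideal.span (Set.range (Fin.tail a))

/-- The deformation: the blow-up of the intersection, with the two strict transforms. -/
structure Deform (i : Z ⟶ P) (J : P.IdealSheafData) (b : M ⟶ P) where
  eqs : LocEqs i J
  cartJ : BlowUp.IsEffCartierIdeal J
  blowUp : BlowUp.IsBlowUp b (i.ker ⊔ J)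
  A : M.IdealSheafData
  K : M.IdealSheafData
  hA : J.comap b = A * (i.ker ⊔ J).comap b
  hK : i.ker.comap b = K * (i.ker ⊔ J).comap b

theorem nonempty_deform {i : Z ⟶ P} {J : P.IdealSheafData} {b : M ⟶ P} (h : LocEqs i J)
    (hJ : BlowUp.IsEffCartierIdeal J) (hb : BlowUp.IsBlowUp b (i.ker ⊔ J)) : Nonempty (Deform i J b) := by
  obtain ⟨A, hA⟩ := ModPairProd.exists_div hb.1 (Scheme.IdealSheafData.comap_mono b (le_sup_right : J ≤ i.ker ⊔ J))
  obtain ⟨K, hK⟩ := ModPairProd.exists_div hb.1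
    (Scheme.IdealSheafData.comap_mono b (le_sup_left : i.ker ≤ i.ker ⊔ J))
  exact ⟨⟨h, hJ, hb, A, K, hA.symm, hK.symm⟩⟩

theorem span_cancel {R : Type u} [CommRing R] {I : Ideal R} {e : R} (he : e ∈ nonZeroDivisors R) {ι : Type*}
    (c : ι → R) (h : I * Ideal.span {e} = Ideal.span (Set.range fun l => c l * e)) : I = Ideal.span (Set.range c) := by
  have h2 : Ideal.span (Set.range c) * Ideal.span {e} = Ideal.span (Set.range fun l => c l * e) := by
    rw [Ideal.span_mul_span', Set.mul_singleton, ← Set.range_comp]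
    rfl
  ext x
  have key : ∀ L : Ideal R, x ∈ L ↔ x * e ∈ L * Ideal.span {e} := fun L => by
    rw [Ideal.mem_mul_span_singleton]
    exact ⟨fun hx => ⟨x, hx, rfl⟩, fun ⟨y, hy, hye⟩ => (mul_cancel_right_mem_nonZeroDivisors he).1 hye ▸ hy⟩
  rw [key I, key, h, h2]

namespace Deform

variable {i : Z ⟶ P} {J : P.IdealSheafData} {b : M ⟶ P} (D : Deform i J b)

/-- The exceptional divisor. -/
abbrev E (_D : Deform i J b) : M.IdealSheafData := (i.ker ⊔ J).comap b

theorem cart_E : BlowUp.IsEffCartierIdeal D.E := D.blowUp.1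

theorem cart_A : BlowUp.IsEffCartierIdeal D.A :=
  BlowUpLib.cartier_of_mul_left (J := D.E) (D.hA ▸ BlowUpLib.cartier_comap_blowUp D.blowUp D.cartJ)

theorem sup_eq_top : D.K ⊔ D.A = ⊤ := by
  refine ModPairProd.mul_cancel D.cart_E ?_
  refine Eq.trans ?_ (show (i.ker ⊔ J).comap b = ⊤ * D.E by
    refine Scheme.IdealSheafData.ext (funext fun V => ?_)
    rw [Scheme.IdealSheafData.ideal_mul, Pi.mul_apply, Scheme.IdealSheafData.ideal_top, Pi.top_apply, Ideal.top_mul])
  refine Eq.trans ?_ (Scheme.IdealSheafData.comap_sup i.ker J b).symm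
  rw [D.hA, D.hK]
  refine Scheme.IdealSheafData.ext (funext fun V => ?_)
  simp only [Scheme.IdealSheafData.ideal_mul, Pi.mul_apply, Scheme.IdealSheafData.ideal_sup, Pi.sup_apply]
  exact Ideal.sup_mul _ _ _

section Chart

variable {U : P.affineOpens} {n : ℕ} {a : Fin (n + 1) → Γ(P, U.1)} (C : Charts b U a)
  (hJ : J.ideal U = Ideal.span {a 0}) (hI : i.ker.ideal U = Ideal.span (Set.range (Fin.tail a)))

include hJ hI in
theorem ideal_centre : (i.ker ⊔ J).ideal U = Ideal.span (Set.range a) := by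
  rw [Scheme.IdealSheafData.ideal_sup, Pi.sup_apply, hI, hJ, ← Ideal.span_union]
  refine congrArg Ideal.span ?_
  conv_rhs => rw [← Fin.cons_self_tail a, Fin.range_cons]
  rw [Set.union_singleton]

include D hJ hI

theorem chart_E (k : Fin (n + 1)) :
    D.E.ideal ⟨C.D k, C.affine k⟩ = Ideal.span {rho b (C.D k) (C.le k) (a k)} := by
  rw [FpqcDescent.ideal_comap_appLE (i.ker ⊔ J) b U ⟨C.D k, C.affine k⟩ (C.le k), ideal_centre hJ hI]
  exact C.gen k

theorem chart_A (k : Fin (n + 1)) : D.A.ideal ⟨C.D k, C.affine k⟩ = Ideal.span {cf C k 0} := by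
  have h := congrArg (fun I : M.IdealSheafData => I.ideal ⟨C.D k, C.affine k⟩) D.hA
  simp only [Scheme.IdealSheafData.ideal_mul, Pi.mul_apply] at h
  rw [chart_E D C hJ hI, FpqcDescent.ideal_comap_appLE J b U ⟨C.D k, C.affine k⟩ (C.le k), hJ, Ideal.map_span,
    Set.image_singleton] at h
  rw [← Set.range_const (ι := Fin 1) (c := cf C k 0)]
  refine span_cancel (C.nzd k _ (C.le k) (C.gen k)) (fun _ => cf C k 0) (h.symm.trans ?_)
  rw [Set.range_const, cf_spec]

theorem chart_K (k : Fin (n + 1)) :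
    D.K.ideal ⟨C.D k, C.affine k⟩ = Ideal.span (Set.range fun l : Fin n => cf C k l.succ) := by
  have h := congrArg (fun I : M.IdealSheafData => I.ideal ⟨C.D k, C.affine k⟩) D.hK
  simp only [Scheme.IdealSheafData.ideal_mul, Pi.mul_apply] at h
  rw [chart_E D C hJ hI, FpqcDescent.ideal_comap_appLE i.ker b U ⟨C.D k, C.affine k⟩ (C.le k), hI, Ideal.map_span,
    ← Set.range_comp] at h
  refine span_cancel (C.nzd k _ (C.le k) (C.gen k)) _ (h.symm.trans ?_)
  refine congrArg Ideal.span (congrArg Set.range (funext fun l => ?_))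
  rw [cf_spec]
  rfl

theorem chart_A_zero : D.A.ideal ⟨C.D 0, C.affine 0⟩ = ⊤ := by
  rw [chart_A D C hJ hI, cf_self, Ideal.span_singleton_one]

theorem chart_K_ne (k : Fin (n + 1)) (hk : k ≠ 0) : D.K.ideal ⟨C.D k, C.affine k⟩ = ⊤ := by
  obtain ⟨l, rfl⟩ := Fin.exists_succ_eq.2 hk
  rw [chart_K D C hJ hI]
  exact (Ideal.eq_top_iff_one _).2 (Ideal.subset_span ⟨l, cf_self C _⟩)

theorem chartData (ha : Acyclic (Fin.tail a)) (hr : RegMod a) :
    ChartData a (rho b (C.D 0) (C.le 0)) (fun l => cf C 0 l) :=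
  ⟨ha, hr, fun l => cf_spec C 0 l, C.nzd 0 _ (C.le 0) (C.gen 0), C.form 0, C.ker 0⟩

end Chart

include D in
theorem exists_chart (m : M) :
    ∃ (U : P.affineOpens) (n : ℕ) (a : Fin (n + 1) → Γ(P, U.1)) (C : Charts b U a) (k : Fin (n + 1)),
      Acyclic (Fin.tail a) ∧ RegMod a ∧ J.ideal U = Ideal.span {a 0} ∧
      i.ker.ideal U = Ideal.span (Set.range (Fin.tail a)) ∧ m ∈ C.D k := by
  obtain ⟨U, n, a, hmU, ha, hr, hJ, hI⟩ := D.eqs (b m)
  obtain ⟨C⟩ := BlowCech.exists_charts (i.ker ⊔ J) D.blowUp U a (ideal_centre hJ hI)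
  obtain ⟨k, hk⟩ := Opens.mem_iSup.1 (C.cover hmU)
  exact ⟨U, n, a, C, k, ha, hr, hJ, hI, hk⟩

theorem eq_zero_of_mem {U : P.affineOpens} {n : ℕ} {a : Fin (n + 1) → Γ(P, U.1)} (C : Charts b U a)
    (hJ : J.ideal U = Ideal.span {a 0}) (hI : i.ker.ideal U = Ideal.span (Set.range (Fin.tail a))) {k : Fin (n + 1)}
    {m : M} (hm : m ∈ C.D k) (hK : m ∈ D.K.support) : k = 0 := by
  by_contra hk
  rw [Scheme.IdealSheafData.mem_support_iff_of_mem (U := ⟨C.D k, C.affine k⟩) hm,
    chart_K_ne D C hJ hI k hk, Scheme.mem_zeroLocus_iff] at hK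
  exact hK 1 (Submodule.mem_top) (by rw [M.basicOpen_of_isUnit isUnit_one]; exact hm)

/-- The centre is still a divisor on the strict transform. -/
theorem cart_E_K : BlowUp.IsEffCartierIdeal (D.E.comap D.K.subschemeι) := fun z => by
  obtain ⟨U, n, a, C, k, ha, hr, hJ, hI, hm⟩ := exists_chart D (D.K.subschemeι z)
  obtain rfl := eq_zero_of_mem D C hJ hI hm (D.K.range_subschemeι.le ⟨z, rfl⟩)
  let W : M.affineOpens := ⟨C.D 0, C.affine 0⟩
  let t := rho b (C.D 0) (C.le 0) (a 0)
  refine ⟨⟨D.K.subschemeι ⁻¹ᵁ C.D 0, (C.affine 0).preimage _⟩, hm, (D.K.subschemeι.app (C.D 0)) t,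
    mem_nonZeroDivisors_iff_right.2 fun x hx => ?_, ?_⟩
  · obtain ⟨y, rfl⟩ := D.K.subschemeι.app_surjective (C.D 0) (C.affine 0) x
    rw [← map_mul, ← RingHom.mem_ker, D.K.ker_subschemeι_app W, chart_K D C hJ hI, mul_comm] at hx
    rw [← RingHom.mem_ker, D.K.ker_subschemeι_app W, chart_K D C hJ hI]
    exact (chartData D C hJ hI ha hr).reg_c y hx
  · rw [FpqcDescent.ideal_comap_appLE D.E D.K.subschemeι W ⟨_, (C.affine 0).preimage _⟩ le_rfl,
      chart_E D C hJ hI, Ideal.map_span, Set.image_singleton, Scheme.Hom.app_eq_appLE]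

section Strict

variable [IsClosedImmersion i]

include D in
/-- The divisor is a divisor on the subscheme. -/
theorem cart_J_i : BlowUp.IsEffCartierIdeal (J.comap i) := fun z => by
  obtain ⟨U, n, a, hz, ha, hr, hJ, hI⟩ := D.eqs (i z)
  refine ⟨⟨i ⁻¹ᵁ U.1, U.2.preimage i⟩, hz, (i.app U.1) (a 0), mem_nonZeroDivisors_iff_right.2 fun x hx => ?_, ?_⟩
  · obtain ⟨y, rfl⟩ := i.app_surjective U.1 U.2 x
    rw [← map_mul, ← RingHom.mem_ker, ← Scheme.Hom.ker_apply, hI, mul_comm] at hx
    rw [← RingHom.mem_ker, ← Scheme.Hom.ker_apply, hI]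
    exact hr y hx
  · rw [FpqcDescent.ideal_comap_appLE J i U ⟨_, U.2.preimage i⟩ le_rfl, hJ, Ideal.map_span, Set.image_singleton,
      Scheme.Hom.app_eq_appLE]

theorem comap_ker_self : i.ker.comap i = ⊥ :=
  le_bot_iff.1 ((Scheme.IdealSheafData.map_gc i _ _).2 (Scheme.IdealSheafData.map_bot i).ge)

theorem comap_centre : (i.ker ⊔ J).comap i = J.comap i := by
  rw [Scheme.IdealSheafData.comap_sup, comap_ker_self, bot_sup_eq]

include D in
theorem exists_strict : ∃ F : Z ⟶ M, F ≫ b = i :=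
  (D.blowUp.2 Z i (comap_centre (i := i) (J := J) ▸ D.cart_J_i)).exists

/-- The strict transform of the subscheme. -/
def F : Z ⟶ M := D.exists_strict.choose

theorem F_comp : D.F ≫ b = i := D.exists_strict.choose_spec

theorem comap_K_F : D.K.comap D.F = ⊥ := by
  have hE : D.E.comap D.F = J.comap i := by
    rw [← Scheme.IdealSheafData.comap_comp, F_comp, comap_centre]
  refine ModPairProd.mul_cancel (hE ▸ D.cart_J_i : BlowUp.IsEffCartierIdeal (D.E.comap D.F)) ?_
  rw [← BlowUpLib.comap_mul, ← D.hK, ← Scheme.IdealSheafData.comap_comp, F_comp, comap_ker_self]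
  refine Scheme.IdealSheafData.ext (funext fun V => ?_)
  rw [Scheme.IdealSheafData.ideal_mul, Pi.mul_apply, Scheme.IdealSheafData.ideal_bot, Pi.bot_apply, Ideal.bot_mul]

/-- The strict transform is the residual subscheme. -/
theorem ker_F : D.F.ker = D.K := by
  refine le_antisymm ?_ ?_
  · have hle : i.ker ≤ (D.K.subschemeι ≫ b).ker := by
      have h1 : i.ker.comap b ≤ D.K := by
        rw [D.hK]
        intro V
        rw [Scheme.IdealSheafData.ideal_mul, Pi.mul_apply]
        exact Ideal.mul_le_left (I := D.K.ideal V) (J := D.E.ideal V)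
      rw [← Scheme.IdealSheafData.map_ker, Scheme.IdealSheafData.ker_subschemeι]
      exact (Scheme.IdealSheafData.map_gc b _ _).1 h1
    let g := IsClosedImmersion.lift i (D.K.subschemeι ≫ b) hle
    have hg : g ≫ i = D.K.subschemeι ≫ b := IsClosedImmersion.lift_fac _ _ _
    have heq : g ≫ D.F = D.K.subschemeι := by
      refine (D.blowUp.2 _ (D.K.subschemeι ≫ b) ?_).unique (by rw [Category.assoc, F_comp, hg]) rfl
      rw [Scheme.IdealSheafData.comap_comp]
      exact D.cart_E_K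
    calc D.F.ker ≤ (g ≫ D.F).ker := Scheme.Hom.le_ker_comp _ _
      _ = D.K := by rw [heq, Scheme.IdealSheafData.ker_subschemeι]
  · rw [← Scheme.IdealSheafData.map_bot D.F]
    exact (Scheme.IdealSheafData.map_gc D.F _ _).1 D.comap_K_F.le

instance isClosedImmersion_F [IsSeparated b] : IsClosedImmersion D.F := by
  haveI : IsClosedImmersion (D.F ≫ b) := by rw [F_comp]; infer_instance
  exact IsClosedImmersion.of_comp D.F b

theorem exists_zero_chart [IsSeparated b] (z : Z) :
    ∃ (U : P.affineOpens) (n : ℕ) (a : Fin (n + 1) → Γ(P, U.1)) (C : Charts b U a),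
      Acyclic (Fin.tail a) ∧ RegMod a ∧ J.ideal U = Ideal.span {a 0} ∧
      i.ker.ideal U = Ideal.span (Set.range (Fin.tail a)) ∧ D.F z ∈ C.D 0 := by
  obtain ⟨U, n, a, C, k, ha, hr, hJ, hI, hm⟩ := exists_chart D (D.F z)
  have hz : D.F z ∈ D.K.support := by
    rw [← ker_F, ← SetLike.mem_coe, Scheme.Hom.support_ker]
    exact subset_closure ⟨z, rfl⟩
  obtain rfl := eq_zero_of_mem D C hJ hI hm hz
  exact ⟨U, n, a, C, ha, hr, hJ, hI, hm⟩

theorem isRegular_F [IsLocallyNoetherian M] [IsSeparated b] : Mor2.IsRegularClosedImmersion D.F := by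
  refine RegMor2.isRegularImmersion_iff.1 ⟨inferInstance, fun z => ?_⟩
  rw [KoszulLib.isRegularImmersionAt_kind_iff .regular .koszul]
  obtain ⟨U, n, a, C, ha, hr, hJ, hI, hm⟩ := exists_zero_chart D z
  refine ⟨⟨C.D 0, C.affine 0⟩, hm, IsZariskiLocalAtTarget.restrict (P := @IsClosedImmersion) inferInstance _,
    List.ofFn fun l : Fin n => cf C 0 l.succ, KoszulLib.isKoszulRegularSeq_of_acyclic (chartData D C hJ hI ha hr).acyclic_c, ?_⟩
  rw [← Scheme.Hom.ker_apply D.F ⟨C.D 0, C.affine 0⟩, ker_F, chart_K D C hJ hI, Ideal.ofList]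
  refine congrArg Ideal.span (Set.ext fun x => ?_)
  simp [List.mem_ofFn]

theorem card_eq [IsSeparated b] {d : ℕ} (hC : FlatMod.IsFinLocFreeOfRank d (Omega.conormal i)) {U : P.affineOpens} {n : ℕ}
    {a : Fin n → Γ(P, U.1)} (ha : Acyclic a) (hI : i.ker.ideal U = Ideal.span (Set.range a)) {z : Z}
    (hz : i z ∈ U.1) : n = d := by
  obtain ⟨s, -, hs⟩ := BlowExcBundle.exists_conormal_frame i U a hI (BlowExcBundle.quasiRegular_of_acyclic ha)
  obtain ⟨V, hV, hyV, ⟨β⟩⟩ := CycPB.exists_basis hC z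
  have hb : TMul.IsFrame fun l => β l := by
    refine PBundle.isFrame_of_bijective (Conormal.isQCoh_conormal i) hV ?_
    have h := β.equivFun.symm.bijective
    have he : ⇑β.equivFun.symm = fun a : Fin d → Γ(Z, V) => ∑ l, a l • β l :=
      funext fun a => β.equivFun_symm_apply a
    rwa [he] at h
  exact W7Strat.frame_card_unique hs hb (show z ∈ i ⁻¹ᵁ U.1 from hz) hyV

theorem conormal_F [IsSeparated b] {d : ℕ} (hC : FlatMod.IsFinLocFreeOfRank d (Omega.conormal i)) :
    FlatMod.IsFinLocFreeOfRank d (Omega.conormal D.F) :=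
  W7Strat.isFinLocFreeOfRank_of_frames fun z => by
    obtain ⟨U, n, a, C, ha, hr, hJ, hI, hm⟩ := exists_zero_chart D z
    obtain rfl : n = d := card_eq (b := b) hC ha hI (z := z) (by
      have h : b (D.F z) ∈ U.1 := C.le 0 hm
      rwa [← Scheme.Hom.comp_apply, F_comp] at h)
    obtain ⟨s, -, hs⟩ := BlowExcBundle.exists_conormal_frame D.F ⟨C.D 0, C.affine 0⟩
      (fun l : Fin n => cf C 0 l.succ) (by rw [ker_F, chart_K D C hJ hI])
      (BlowExcBundle.quasiRegular_of_acyclic (chartData D C hJ hI ha hr).acyclic_c)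
    exact ⟨_, _, hm, hs⟩

end Strict

end Deform

end Groth.Agent.NormDef
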